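import Mathlib.Algebra.Group.End
import Mathlib.Data.ZMod.Basic
import Mathlib.Algebra.Field.ZMod
import Mathlib.LinearAlgebra.BilinearMap
import Mathlib.LinearAlgebra.Dimension.Finite
import Mathlib.LinearAlgebra.Dual.Lemmas
import Mathlib.GroupTheory.Subgroup.Centralizer

/-!
# Groups with a centre of order two and elementary abelian quotient

The symplectic space attached to such a group and products over a list of automorphisms.
-/

set_option autoImplicit false
set_option linter.unusedSectionVars false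

namespace Cfsg.Agent.DadeTwo

universe u

variable {E : Type u} [Group E]

/-- `z` is a central involution containing all commutators and squares, and `{1, z}` is the
whole centre. -/
structure Good (z : E) : Prop where
  ne : z ≠ 1
  sq : z * z = 1
  cz : ∀ x : E, Commute z x
  comm : ∀ x y : E, x * y = y * x ∨ x * y = y * x * z
  square : ∀ x : E, x * x = 1 ∨ x * x = z
  center : ∀ x : E, (∀ y, Commute x y) → x = 1 ∨ x = z

/-- Membership of `{1, z}`. -/
def InZ (z x : E) : Prop := x = 1 ∨ x = z

open Classical in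
/-- The commutator pairing. -/
noncomputable def bc (x y : E) : ZMod 2 := if Commute x y then 0 else 1

/-- The central element of given parity. -/
def zz (z : E) (c : ZMod 2) : E := if c = 0 then 1 else z

theorem zmod_two_cases (c : ZMod 2) : c = 0 ∨ c = 1 := by
  revert c; decide

theorem add_self_zero (c : ZMod 2) : c + c = 0 := by revert c; decide

variable {z : E}

theorem zz_zero : zz z 0 = 1 := if_pos rfl
theorem zz_one : zz z 1 = z := if_neg one_ne_zero

theorem zz_inZ (c : ZMod 2) : InZ z (zz z c) := by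
  rcases zmod_two_cases c with rfl | rfl
  · exact Or.inl zz_zero
  · exact Or.inr zz_one

theorem zz_add (hg : Good z) (a b : ZMod 2) : zz z (a + b) = zz z a * zz z b := by
  rcases zmod_two_cases a with rfl | rfl <;> rcases zmod_two_cases b with rfl | rfl
  · simp [zz_zero]
  · simp [zz_zero]
  · simp [zz_zero]
  · rw [add_self_zero, zz_zero, zz_one, hg.sq]

theorem zz_injective (hg : Good z) : Function.Injective (zz z) := by
  intro a b h
  rcases zmod_two_cases a with rfl | rfl <;> rcases zmod_two_cases b with rfl | rfl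
  · rfl
  · rw [zz_zero, zz_one] at h; exact absurd h.symm hg.ne
  · rw [zz_zero, zz_one] at h; exact absurd h hg.ne
  · rfl

theorem inZ_iff_zz {x : E} : InZ z x ↔ ∃ c, x = zz z c := by
  constructor
  · rintro (rfl | rfl)
    exacts [⟨0, zz_zero.symm⟩, ⟨1, zz_one.symm⟩]
  · rintro ⟨c, rfl⟩; exact zz_inZ c

theorem InZ.commute (hg : Good z) {x : E} (hx : InZ z x) (y : E) : Commute x y := by
  rcases hx with rfl | rfl
  exacts [Commute.one_left y, hg.cz y]

theorem InZ.sq (hg : Good z) {x : E} (hx : InZ z x) : x * x = 1 := by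
  rcases hx with rfl | rfl
  exacts [one_mul 1, hg.sq]

theorem InZ.mul (hg : Good z) {x y : E} (hx : InZ z x) (hy : InZ z y) : InZ z (x * y) := by
  rcases hx with rfl | rfl <;> rcases hy with rfl | rfl
  · exact Or.inl (one_mul 1)
  · exact Or.inr (one_mul _)
  · exact Or.inr (mul_one _)
  · exact Or.inl hg.sq

theorem InZ.inv (hg : Good z) {x : E} (hx : InZ z x) : InZ z x⁻¹ := by
  rwa [inv_eq_of_mul_eq_one_right (hx.sq hg)]

theorem mul_eq_zz (hg : Good z) (x y : E) : x * y = y * x * zz z (bc x y) := by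
  unfold bc
  split_ifs with h
  · rw [zz_zero, mul_one]; exact h
  · rw [zz_one]; exact (hg.comm x y).resolve_left h

theorem bc_unique (hg : Good z) {x y : E} {c : ZMod 2} (h : x * y = y * x * zz z c) : bc x y = c := by
  rw [mul_eq_zz hg x y] at h
  exact zz_injective hg (mul_left_cancel h)

theorem bc_eq_zero_iff {x y : E} : bc x y = 0 ↔ Commute x y := by
  unfold bc; split_ifs with h
  · simp [h]
  · simp [h]

theorem bc_comm (x y : E) : bc x y = bc y x := by
  unfold bc
  by_cases h : Commute x y
  · rw [if_pos h, if_pos h.symm]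
  · rw [if_neg h, if_neg fun h' => h h'.symm]

theorem bc_mul_left (hg : Good z) (x x' y : E) : bc (x * x') y = bc x y + bc x' y := by
  refine bc_unique hg ?_
  rw [zz_add hg]
  calc x * x' * y = x * (y * x' * zz z (bc x' y)) := by rw [mul_assoc, mul_eq_zz hg x' y]
    _ = (x * y) * x' * zz z (bc x' y) := by simp only [mul_assoc]
    _ = y * x * (zz z (bc x y) * x') * zz z (bc x' y) := by rw [mul_eq_zz hg x y]; simp only [mul_assoc]
    _ = y * (x * x') * (zz z (bc x y) * zz z (bc x' y)) := by
        rw [((zz_inZ (z := z) (bc x y)).commute hg x').eq]; simp only [mul_assoc]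

theorem bc_mul_right (hg : Good z) (x y y' : E) : bc x (y * y') = bc x y + bc x y' := by
  rw [bc_comm, bc_mul_left hg, bc_comm y, bc_comm y']

theorem bc_inZ_left (hg : Good z) {x : E} (hx : InZ z x) (y : E) : bc x y = 0 :=
  bc_eq_zero_iff.mpr (hx.commute hg y)

theorem bc_one_left (y : E) : bc (1 : E) y = 0 := bc_eq_zero_iff.mpr (Commute.one_left y)

theorem bc_self (x : E) : bc x x = 0 := bc_eq_zero_iff.mpr (Commute.refl x)

theorem bc_equiv (a : MulAut E) (x y : E) : bc (a x) (a y) = bc x y := by
  unfold bc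
  by_cases h : Commute x y
  · rw [if_pos h, if_pos (h.map a)]
  · rw [if_neg h, if_neg]
    intro h'
    apply h
    have := h'.map a⁻¹
    simpa using this

theorem bc_equiv_left (a : MulAut E) (x y : E) : bc (a x) y = bc x (a⁻¹ y) := by
  rw [← bc_equiv a x (a⁻¹ y), MulAut.apply_inv_self]

theorem aut_z (hg : Good z) (a : MulAut E) : a z = z := by
  refine (hg.center (a z) fun y => ?_).resolve_left fun h => hg.ne (a.map_eq_one_iff.mp h)
  simpa using (hg.cz (a⁻¹ y)).map a

theorem InZ.map (hg : Good z) (a : MulAut E) {x : E} (hx : InZ z x) : InZ z (a x) := by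
  rcases hx with rfl | rfl
  exacts [Or.inl (map_one a), Or.inr (aut_z hg a)]

theorem inZ_of_bc (hg : Good z) {x : E} (h : ∀ w, bc x w = 0) : InZ z x :=
  hg.center x fun y => bc_eq_zero_iff.mp (h y)

/-! ### The symplectic space -/

variable (hg : Good z)
include hg

/-- `x ↦ bc x ·`, an additive map. -/
theorem bcFun_mul (x y : E) : (fun w => bc (x * y) w) = (fun w => bc x w) + fun w => bc y w :=
  funext fun w => bc_mul_left hg x y w

/-- The space `E / {1, z}`, realised inside the functions on `E`. -/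
def Vsp : Submodule (ZMod 2) (E → ZMod 2) where
  carrier := Set.range fun x : E => fun w => bc x w
  zero_mem' := ⟨1, funext fun w => bc_one_left w⟩
  add_mem' := by
    rintro _ _ ⟨x, rfl⟩ ⟨y, rfl⟩
    exact ⟨x * y, bcFun_mul hg x y⟩
  smul_mem' := by
    rintro c _ ⟨x, rfl⟩
    rcases zmod_two_cases c with rfl | rfl
    · exact ⟨1, funext fun w => by simp [bc_one_left]⟩
    · exact ⟨x, (one_smul _ _).symm⟩

/-- The projection to the symplectic space. -/
noncomputable def q (x : E) : Vsp hg := ⟨fun w => bc x w, x, rfl⟩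

theorem q_apply (x w : E) : (q hg x : E → ZMod 2) w = bc x w := rfl

theorem q_surjective : Function.Surjective (q hg) := by
  rintro ⟨_, x, rfl⟩
  exact ⟨x, rfl⟩

theorem q_mul (x y : E) : q hg (x * y) = q hg x + q hg y :=
  Subtype.ext (bcFun_mul hg x y)

theorem q_one : q hg 1 = 0 := Subtype.ext (funext fun w => bc_one_left w)

theorem q_eq_zero_iff {x : E} : q hg x = 0 ↔ InZ z x := by
  constructor
  · intro h
    exact inZ_of_bc hg fun w => congrFun (congrArg Subtype.val h) w
  · intro h
    exact Subtype.ext (funext fun w => bc_inZ_left hg h w)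

theorem neg_eq (v : Vsp hg) : -v = v := by
  ext w
  simpa using (neg_eq_iff_add_eq_zero.mpr (add_self_zero ((v : E → ZMod 2) w)))

theorem q_inv (x : E) : q hg x⁻¹ = q hg x := by
  have h := q_mul hg x⁻¹ x
  rw [inv_mul_cancel, q_one] at h
  rw [eq_neg_of_add_eq_zero_left h.symm, neg_eq]

theorem q_eq_iff {x y : E} : q hg x = q hg y ↔ ∃ c, x = y * zz z c := by
  rw [← neg_eq hg (q hg y), ← add_eq_zero_iff_eq_neg, add_comm, ← q_inv hg y, ← q_mul,
    q_eq_zero_iff, inZ_iff_zz]
  simp [inv_mul_eq_iff_eq_mul]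

/-- An automorphism on the symplectic space. -/
noncomputable def aV (a : MulAut E) : Vsp hg →ₗ[ZMod 2] Vsp hg where
  toFun v := ⟨fun w => (v : E → ZMod 2) (a⁻¹ w), by
    obtain ⟨x, rfl⟩ := q_surjective hg v
    exact ⟨a x, funext fun w => bc_equiv_left a x w⟩⟩
  map_add' _ _ := rfl
  map_smul' _ _ := rfl

theorem aV_q (a : MulAut E) (x : E) : aV hg a (q hg x) = q hg (a x) :=
  Subtype.ext (funext fun w => (bc_equiv_left a x w).symm)

theorem aV_one : aV hg 1 = 1 := LinearMap.ext fun _ => rfl

theorem aV_mul (a b : MulAut E) : aV hg (a * b) = aV hg a * aV hg b := by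
  refine LinearMap.ext fun v => ?_
  obtain ⟨x, rfl⟩ := q_surjective hg v
  simp [aV_q]

/-- `aV` as a monoid homomorphism. -/
noncomputable def aVHom : MulAut E →* Module.End (ZMod 2) (Vsp hg) where
  toFun := aV hg
  map_one' := aV_one hg
  map_mul' := aV_mul hg

theorem pairing_well {v : Vsp hg} {x y : E} (h : q hg x = q hg y) :
    (v : E → ZMod 2) x = (v : E → ZMod 2) y := by
  obtain ⟨u, rfl⟩ := q_surjective hg v
  have := congrFun (congrArg Subtype.val h) u
  simpa [q_apply, bc_comm] using this

/-- The alternating form. -/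
noncomputable def B : Vsp hg →ₗ[ZMod 2] Vsp hg →ₗ[ZMod 2] ZMod 2 :=
  LinearMap.mk₂ _ (fun v w => (v : E → ZMod 2) (Function.surjInv (q_surjective hg) w))
    (fun _ _ _ => rfl) (fun _ _ _ => rfl)
    (fun v w₁ w₂ => by
      obtain ⟨u, rfl⟩ := q_surjective hg v
      have h : q hg (Function.surjInv (q_surjective hg) (w₁ + w₂)) =
          q hg (Function.surjInv (q_surjective hg) w₁ * Function.surjInv (q_surjective hg) w₂) := by
        rw [q_mul, Function.surjInv_eq (q_surjective hg), Function.surjInv_eq (q_surjective hg),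
          Function.surjInv_eq (q_surjective hg)]
      rw [pairing_well hg h, q_apply, bc_mul_right hg]
      rfl)
    (fun c v w => by
      obtain ⟨u, rfl⟩ := q_surjective hg v
      rcases zmod_two_cases c with rfl | rfl
      · have h : q hg (Function.surjInv (q_surjective hg) ((0 : ZMod 2) • w)) = q hg 1 := by
          rw [Function.surjInv_eq (q_surjective hg), zero_smul, q_one]
        rw [pairing_well hg h, q_apply, bc_comm, bc_one_left, zero_smul]
      · rw [one_smul, one_smul])

theorem B_q (x y : E) : B hg (q hg x) (q hg y) = bc x y := by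
  show (q hg x : E → ZMod 2) (Function.surjInv (q_surjective hg) (q hg y)) = _
  rw [pairing_well hg (Function.surjInv_eq (q_surjective hg) (q hg y))]
  rfl

theorem B_symm (v w : Vsp hg) : B hg v w = B hg w v := by
  obtain ⟨x, rfl⟩ := q_surjective hg v
  obtain ⟨y, rfl⟩ := q_surjective hg w
  rw [B_q, B_q, bc_comm]

theorem eq_zero_of_B {v : Vsp hg} (h : ∀ w, B hg v w = 0) : v = 0 := by
  obtain ⟨x, rfl⟩ := q_surjective hg v
  exact (q_eq_zero_iff hg).mpr (inZ_of_bc hg fun w => by rw [← B_q hg]; exact h _)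

theorem B_aV (a : MulAut E) (v w : Vsp hg) : B hg (aV hg a v) (aV hg a w) = B hg v w := by
  obtain ⟨x, rfl⟩ := q_surjective hg v
  obtain ⟨y, rfl⟩ := q_surjective hg w
  rw [aV_q, aV_q, B_q, B_q, bc_equiv]

theorem B_aV_left (a : MulAut E) (v w : Vsp hg) : B hg (aV hg a v) w = B hg v (aV hg a⁻¹ w) := by
  obtain ⟨x, rfl⟩ := q_surjective hg v
  obtain ⟨y, rfl⟩ := q_surjective hg w
  rw [aV_q, aV_q, B_q, B_q, bc_equiv_left]

omit hg

/-! ### Products over lists of automorphisms -/

/-- The product of the images of `x` under a list of automorphisms. -/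
def Pl (l : List (MulAut E)) (x : E) : E := (l.map fun k => k x).prod

theorem Pl_nil (x : E) : Pl ([] : List (MulAut E)) x = 1 := rfl

theorem Pl_cons (k : MulAut E) (l : List (MulAut E)) (x : E) : Pl (k :: l) x = k x * Pl l x := by
  simp [Pl]

include hg

theorem bc_Pl (w : E) (l : List (MulAut E)) (x : E) :
    bc w (Pl l x) = (l.map fun k => bc w (k x)).sum := by
  induction l with
  | nil => simp [Pl_nil, bc_comm w, bc_one_left]
  | cons k l ih => simp [Pl_cons, bc_mul_right hg, ih]

theorem q_Pl (l : List (MulAut E)) (x : E) : q hg (Pl l x) = (l.map fun k => aV hg k (q hg x)).sum := by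
  induction l with
  | nil => simp [Pl_nil, q_one]
  | cons k l ih => simp [Pl_cons, q_mul, ih, aV_q]

theorem Pl_rel (l : List (MulAut E)) (a a' b b' : E)
    (h : ∀ k ∈ l, ∀ k' ∈ l, bc (k a) (k' a') = bc (k b) (k' b')) :
    ∃ c, Pl l (a * a') = Pl l a * Pl l a' * zz z c ∧ Pl l (b * b') = Pl l b * Pl l b' * zz z c := by
  induction l with
  | nil => exact ⟨0, by simp [Pl_nil, zz_zero], by simp [Pl_nil, zz_zero]⟩
  | cons k l ih =>
    obtain ⟨c, hc, hc'⟩ := ih fun i hi j hj => h i (List.mem_cons_of_mem _ hi) j (List.mem_cons_of_mem _ hj)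
    have he : bc (k a') (Pl l a) = bc (k b') (Pl l b) := by
      rw [bc_Pl hg, bc_Pl hg]
      refine congrArg List.sum (List.map_congr_left fun j hj => ?_)
      rw [bc_comm, h j (List.mem_cons_of_mem _ hj) k List.mem_cons_self, bc_comm]
    have key : ∀ (x x' : E), Pl l (x * x') = Pl l x * Pl l x' * zz z c →
        Pl (k :: l) (x * x') =
          Pl (k :: l) x * Pl (k :: l) x' * zz z (bc (k x') (Pl l x) + c) := by
      intro x x' hx
      rw [Pl_cons, Pl_cons, Pl_cons, hx, map_mul, zz_add hg]
      calc k x * k x' * (Pl l x * Pl l x' * zz z c)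
          = k x * (k x' * Pl l x) * (Pl l x' * zz z c) := by simp only [mul_assoc]
        _ = k x * (Pl l x * k x') * (zz z (bc (k x') (Pl l x)) * Pl l x') * zz z c := by
            rw [mul_eq_zz hg (k x') (Pl l x)]; simp only [mul_assoc]
        _ = k x * Pl l x * (k x' * Pl l x') * (zz z (bc (k x') (Pl l x)) * zz z c) := by
            rw [((zz_inZ (z := z) (bc (k x') (Pl l x))).commute hg (Pl l x')).eq]
            simp only [mul_assoc]
    exact ⟨_, key a a' hc, he ▸ key b b' hc'⟩

/-- Reordering changes the product by a factor which only depends on the pairing. -/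
theorem Pl_perm {l l' : List (MulAut E)} (hp : l.Perm l') :
    ∀ a b : E, (∀ k ∈ l, ∀ k' ∈ l, bc (k a) (k' a) = bc (k b) (k' b)) →
      ∃ c, Pl l' a = Pl l a * zz z c ∧ Pl l' b = Pl l b * zz z c := by
  induction hp with
  | nil => exact fun a b _ => ⟨0, by simp [zz_zero], by simp [zz_zero]⟩
  | cons k _ ih =>
    intro a b h
    obtain ⟨c, h1, h2⟩ := ih a b fun i hi j hj =>
      h i (List.mem_cons_of_mem _ hi) j (List.mem_cons_of_mem _ hj)
    exact ⟨c, by simp [Pl_cons, h1, mul_assoc], by simp [Pl_cons, h2, mul_assoc]⟩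
  | swap k k' l =>
    intro a b h
    refine ⟨bc (k a) (k' a), ?_, ?_⟩
    · simp only [Pl_cons]
      rw [← mul_assoc, mul_eq_zz hg (k a) (k' a), mul_assoc (k' a * k a),
        ((zz_inZ (z := z) (bc (k a) (k' a))).commute hg _).eq]
      simp only [mul_assoc]
    · simp only [Pl_cons]
      rw [h k (by simp) k' (by simp), ← mul_assoc, mul_eq_zz hg (k b) (k' b), mul_assoc (k' b * k b),
        ((zz_inZ (z := z) (bc (k b) (k' b))).commute hg _).eq]
      simp only [mul_assoc]
  | trans h12 _ ih1 ih2 =>
    intro a b h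
    obtain ⟨c, h1, h2⟩ := ih1 a b h
    obtain ⟨d, h3, h4⟩ := ih2 a b fun i hi j hj => h i (h12.mem_iff.mpr hi) j (h12.mem_iff.mpr hj)
    refine ⟨c + d, ?_, ?_⟩
    · rw [h3, h1, zz_add hg, mul_assoc]
    · rw [h4, h2, zz_add hg, mul_assoc]

omit hg

theorem Pl_one (l : List (MulAut E)) : Pl l (1 : E) = 1 := by
  induction l with
  | nil => rfl
  | cons k l ih => rw [Pl_cons, ih, map_one, one_mul]

include hg

theorem Pl_zz (l : List (MulAut E)) (hl : Odd l.length) (c : ZMod 2) : Pl l (zz z c) = zz z c := by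
  have hgen : ∀ (l : List (MulAut E)), Pl l (zz z c) = zz z c ^ l.length := by
    intro l
    induction l with
    | nil => simp [Pl_nil]
    | cons k l ih =>
      have hk : k (zz z c) = zz z c := by
        rcases zmod_two_cases c with rfl | rfl
        · rw [zz_zero, map_one]
        · rw [zz_one]; exact aut_z hg k
      rw [Pl_cons, hk, ih, List.length_cons, pow_succ']
  obtain ⟨m, hm⟩ := hl
  rw [hgen, hm, pow_succ, pow_mul, pow_two, (zz_inZ (z := z) c).sq hg, one_pow, one_mul]

theorem Pl_mul_zz (l : List (MulAut E)) (hl : Odd l.length) (a : E) (c : ZMod 2) :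
    Pl l (a * zz z c) = Pl l a * zz z c := by
  have h0 : ∀ k ∈ l, ∀ k' ∈ l, bc (k a) (k' (zz z c)) = bc (k (1 : E)) (k' (1 : E)) := by
    intro k _ k' _
    rw [bc_comm, bc_inZ_left hg ((zz_inZ c).map hg k'), map_one, map_one, bc_one_left]
  obtain ⟨d, h1, h2⟩ := Pl_rel hg l a (zz z c) 1 1 h0
  rw [mul_one, Pl_one, one_mul, one_mul] at h2
  rw [h1, ← h2, mul_one, Pl_zz hg l hl]

/-- On a commuting pair the product is multiplicative. -/
theorem Pl_mul_comm (l : List (MulAut E)) (a a' : E)
    (h : ∀ k ∈ l, ∀ k' ∈ l, bc (k a) (k' a') = 0) : Pl l (a * a') = Pl l a * Pl l a' := by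
  obtain ⟨d, h1, h2⟩ := Pl_rel hg l a a' 1 1 fun k hk k' hk' => by
    rw [h k hk k' hk', map_one, map_one, bc_one_left]
  rw [mul_one, Pl_one, one_mul, one_mul] at h2
  rw [h1, ← h2, mul_one]

omit hg

/-! ### A finite group of automorphisms of odd order without fixed points -/

variable [Finite E] (z)

/-- No fixed points on `E / {1, z}`. -/
def Fpf (K : Subgroup (MulAut E)) : Prop :=
  ∀ x : E, (∀ k ∈ K, k x = x ∨ k x = x * z) → InZ z x

variable {z}

/-- A list enumerating a subgroup of automorphisms. -/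
noncomputable def kl (K : Subgroup (MulAut E)) : List (MulAut E) :=
  (Set.toFinite (K : Set (MulAut E))).toFinset.toList

theorem mem_kl {K : Subgroup (MulAut E)} {k : MulAut E} : k ∈ kl K ↔ k ∈ K := by simp [kl]

theorem kl_nodup (K : Subgroup (MulAut E)) : (kl K).Nodup := Finset.nodup_toList _

theorem kl_length (K : Subgroup (MulAut E)) : (kl K).length = Nat.card K := by
  rw [kl, Finset.length_toList, ← Nat.card_eq_finsetCard]
  exact Nat.card_congr (Equiv.subtypeEquivRight fun x => (Set.toFinite (K : Set (MulAut E))).mem_toFinset)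

theorem kl_perm {K : Subgroup (MulAut E)} (f : MulAut E → MulAut E) (hf : Function.Injective f)
    (hK : ∀ k, f k ∈ K ↔ k ∈ K) : ((kl K).map f).Perm (kl K) := by
  classical
  refine (List.perm_ext_iff_of_nodup ((kl_nodup K).map hf) (kl_nodup K)).mpr fun x => ?_
  rw [mem_kl, List.mem_map]
  constructor
  · rintro ⟨k, hk, rfl⟩
    exact (hK k).mpr (mem_kl.mp hk)
  · intro hx
    have hsurj : Function.Surjective f := Finite.surjective_of_injective hf
    obtain ⟨k, rfl⟩ := hsurj x
    exact ⟨k, mem_kl.mpr ((hK k).mp hx), rfl⟩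

include hg

/-- The sum of the images of a vector under the whole group vanishes. -/
theorem sum_aV_eq_zero {K : Subgroup (MulAut E)} (hfpf : Fpf z K) (v : Vsp hg) :
    ((kl K).map fun k => aV hg k v).sum = 0 := by
  obtain ⟨x, rfl⟩ := q_surjective hg v
  rw [← q_Pl, q_eq_zero_iff]
  refine hfpf _ fun k hk => ?_
  have hq : q hg (k (Pl (kl K) x)) = q hg (Pl (kl K) x) := by
    rw [← aV_q, q_Pl, map_list_sum, List.map_map]
    have hperm := kl_perm (K := K) (fun j => k * j) (mul_right_injective k)
      (fun j => K.mul_mem_cancel_left hk)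
    rw [← (hperm.map fun j => aV hg j (q hg x)).sum_eq, List.map_map]
    refine congrArg List.sum (List.map_congr_left fun j _ => ?_)
    simp [aV_mul]
  obtain ⟨c, hc⟩ := (q_eq_iff hg).mp hq
  rcases zmod_two_cases c with rfl | rfl
  · exact Or.inl (by rwa [zz_zero, mul_one] at hc)
  · exact Or.inr (by rwa [zz_one] at hc)

theorem Pl_inZ {K : Subgroup (MulAut E)} (hfpf : Fpf z K) (x : E) : InZ z (Pl (kl K) x) := by
  rw [← q_eq_zero_iff hg, q_Pl]
  exact sum_aV_eq_zero hg hfpf _

/-- A nondegenerate subspace pairs every vector. -/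
theorem exists_proj (W : Submodule (ZMod 2) (Vsp hg))
    (hW : ∀ w ∈ W, (∀ w' ∈ W, B hg w w' = 0) → w = 0) (v : Vsp hg) :
    ∃ w ∈ W, ∀ w' ∈ W, B hg v w' = B hg w w' := by
  let f : W →ₗ[ZMod 2] Module.Dual (ZMod 2) W := (B hg).compl₁₂ W.subtype W.subtype
  have hinj : Function.Injective f := by
    refine (injective_iff_map_eq_zero f).mpr fun w hw => Subtype.ext (hW w w.2 fun w' hw' => ?_)
    exact LinearMap.congr_fun hw ⟨w', hw'⟩
  have hsurj := (LinearMap.injective_iff_surjective_of_finrank_eq_finrank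
    (Subspace.dual_finrank_eq (K := ZMod 2) (V := W)).symm).mp hinj
  obtain ⟨w, hw⟩ := hsurj ((B hg v).comp W.subtype)
  exact ⟨w, w.2, fun w' hw' => (LinearMap.congr_fun hw ⟨w', hw'⟩).symm⟩

end Cfsg.Agent.DadeTwo
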