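import Mathlib.Algebra.MonoidAlgebra.Basic
import Mathlib.Algebra.Field.ZMod
import Mathlib.Algebra.Ring.Subring.Basic
import Mathlib.GroupTheory.Subgroup.Center
import Mathlib.GroupTheory.OrderOfElement
import Mathlib.Algebra.CharP.Two
import Mathlib.RingTheory.Nilpotent.Basic
import Mathlib.Algebra.BigOperators.Group.Finset.Basic
import Mathlib.Tactic.Group
import Mathlib.Tactic.LinearCombination
import Mathlib.Tactic.Ring

/-!
# The antipode on the centre of the group algebra of a group of odd order over two elements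
-/

set_option autoImplicit false
set_option linter.unusedSectionVars false
set_option linter.style.haveILetI false

namespace Cfsg.Agent.DadeTwo

open scoped MonoidAlgebra

/-- In a finite monoid some positive power of every element is idempotent. -/
theorem exists_pow_idem {R : Type*} [Monoid R] [Finite R] (x : R) :
    ∃ n, 0 < n ∧ x ^ n * x ^ n = x ^ n := by
  obtain ⟨a, b, hne, hab⟩ := Finite.exists_ne_map_eq_of_infinite (fun n : ℕ => x ^ n)
  wlog hlt : a < b generalizing a b
  · exact this b a hne.symm hab.symm (lt_of_le_of_ne (not_lt.mp hlt) hne.symm)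
  have hper : ∀ k, a ≤ k → ∀ i, x ^ (k + i * (b - a)) = x ^ k := by
    intro k hk i
    induction i with
    | zero => simp
    | succ i ih =>
      rw [show k + (i + 1) * (b - a) = (k + i * (b - a) - a) + b by
        rw [Nat.succ_mul]; omega, pow_add, ← hab, ← pow_add,
        show k + i * (b - a) - a + a = k + i * (b - a) by omega, ih]
  refine ⟨(a + 1) * (b - a), Nat.mul_pos (by omega) (by omega), ?_⟩
  rw [← pow_add]
  exact hper _ (le_trans (Nat.le_succ a) (Nat.le_mul_of_pos_right _ (by omega))) (a + 1)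

/-- In a finite reduced monoid-with-zero every element has a supporting idempotent. -/
theorem exists_idem_mul_self {R : Type*} [CommRing R] [Finite R] (hred : ∀ x : R, x ^ 2 = 0 → x = 0)
    (x : R) : ∃ e, e * e = e ∧ (∃ r, e = r * x) ∧ e * x = x := by
  obtain ⟨n, hn, hidem⟩ := exists_pow_idem x
  refine ⟨x ^ n, hidem, ⟨x ^ (n - 1), by rw [← pow_succ, Nat.sub_add_cancel hn]⟩, ?_⟩
  set y := x ^ n * x - x
  have hy : ∀ m, 0 < m → y ^ m = 0 → y = 0 := by
    intro m
    induction m using Nat.strong_induction_on with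
    | _ m ih =>
      intro hm h
      rcases Nat.lt_or_ge m 2 with h2 | h2
      · rwa [show m = 1 by omega, pow_one] at h
      · refine ih ((m + 1) / 2) (by omega) (by omega) (hred _ ?_)
        rw [← pow_mul]
        exact pow_eq_zero_of_le (by omega) h
  refine sub_eq_zero.mp (hy (n + 1) (by omega) ?_)
  have h0 : y * x ^ n = 0 := by
    simp only [y]
    rw [sub_mul, mul_comm (x ^ n * x) (x ^ n), ← mul_assoc, hidem, mul_comm x, sub_self]
  have hyx : y = (x ^ n - 1) * x := by simp only [y]; ring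
  have hyn : y ^ n = (x ^ n - 1) ^ n * x ^ n := by rw [hyx, mul_pow]
  rw [pow_succ, hyn, mul_assoc, mul_comm (x ^ n) y, h0, mul_zero]

variable {K : Type*} [Group K]

/-- The antipode. -/
noncomputable def antip (x : (ZMod 2)[K]) : (ZMod 2)[K] :=
  MonoidAlgebra.mapDomain (fun k => k⁻¹) x

theorem antip_add (x y : (ZMod 2)[K]) : antip (x + y) = antip x + antip y :=
  MonoidAlgebra.mapDomain_add _ x y

theorem antip_smul (r : ZMod 2) (x : (ZMod 2)[K]) : antip (r • x) = r • antip x :=
  MonoidAlgebra.mapDomain_smul _ r x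

theorem antip_of (k : K) :
    antip (MonoidAlgebra.of (ZMod 2) K k) = MonoidAlgebra.of (ZMod 2) K k⁻¹ := by
  simp [antip, MonoidAlgebra.of_apply]

theorem antip_mul (x y : (ZMod 2)[K]) : antip (x * y) = antip y * antip x := by
  induction x using MonoidAlgebra.induction_on with
  | of k =>
    induction y using MonoidAlgebra.induction_on with
    | of l => rw [← map_mul, antip_of, antip_of, antip_of, ← map_mul, mul_inv_rev]
    | add a b ha hb => rw [mul_add, antip_add, ha, hb, antip_add, add_mul]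
    | smul r a ha => rw [mul_smul_comm, antip_smul, ha, antip_smul, smul_mul_assoc]
  | add a b ha hb => rw [add_mul, antip_add, ha, hb, antip_add, mul_add]
  | smul r a ha => rw [smul_mul_assoc, antip_smul, ha, antip_smul, mul_smul_comm]

theorem coeff_antip (x : (ZMod 2)[K]) (g : K) : (antip x).coeff g = x.coeff g⁻¹ := by
  induction x using MonoidAlgebra.induction_on with
  | of k =>
    rw [antip_of]
    classical
    simp [MonoidAlgebra.of_apply, Finsupp.single_apply, inv_eq_iff_eq_inv]
  | add a b ha hb => simp [antip_add, ha, hb]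
  | smul r a ha => simp [antip_smul, ha]

theorem antip_antip (x : (ZMod 2)[K]) : antip (antip x) = x :=
  MonoidAlgebra.ext (Finsupp.ext fun g => by rw [coeff_antip, coeff_antip, inv_inv])

theorem coeff_central {x : (ZMod 2)[K]} (hx : x ∈ Subring.center (ZMod 2)[K]) (a g : K) :
    x.coeff (a * g * a⁻¹) = x.coeff g := by
  have h := congrArg (fun y : (ZMod 2)[K] => y.coeff (a * g))
    (Subring.mem_center_iff.mp hx (MonoidAlgebra.of (ZMod 2) K a))
  simpa [MonoidAlgebra.of_apply] using h.symm

theorem central_of_coeff {x : (ZMod 2)[K]} (hx : ∀ a g, x.coeff (a * g * a⁻¹) = x.coeff g) :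
    x ∈ Subring.center (ZMod 2)[K] := by
  rw [Subring.mem_center_iff]
  intro y
  induction y using MonoidAlgebra.induction_on with
  | of a =>
    refine MonoidAlgebra.ext (Finsupp.ext fun g => ?_)
    have := hx a (a⁻¹ * g)
    rw [mul_inv_cancel_left] at this
    simp [MonoidAlgebra.of_apply, this]
  | add a b ha hb => rw [add_mul, mul_add, ha, hb]
  | smul r a ha => rw [smul_mul_assoc, mul_smul_comm, ha]

theorem antip_central {x : (ZMod 2)[K]} (hx : x ∈ Subring.center (ZMod 2)[K]) :
    antip x ∈ Subring.center (ZMod 2)[K] :=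
  central_of_coeff fun a g => by
    rw [coeff_antip, coeff_antip, show (a * g * a⁻¹)⁻¹ = a * g⁻¹ * a⁻¹ by group, coeff_central hx]

variable [Fintype K]

theorem zmod_mul_self (c : ZMod 2) : c * c = c := by revert c; decide

theorem coeff_sq (hK : Odd (Nat.card K)) (y : (ZMod 2)[K]) : (y * y).coeff 1 = y.coeff 1 := by
  classical
  rw [MonoidAlgebra.coeff_mul_apply_left, Finsupp.sum_fintype _ _ (by simp)]
  simp only [mul_one]
  rw [← Finset.add_sum_erase _ _ (Finset.mem_univ (1 : K)), inv_one, zmod_mul_self]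
  suffices h : ∑ a ∈ Finset.univ.erase (1 : K), y.coeff a * y.coeff a⁻¹ = 0 by rw [h, add_zero]
  refine Finset.sum_involution (fun a _ => a⁻¹) (fun a _ => ?_) (fun a ha _ hfix => ?_)
    (fun a ha => ?_) (fun a _ => inv_inv a)
  · rw [inv_inv, mul_comm (y.coeff a⁻¹), CharTwo.add_self_eq_zero]
  · refine (Finset.mem_erase.mp ha).1 ?_
    have h2 : a ^ 2 = 1 := by rw [pow_two]; exact eq_inv_iff_mul_eq_one.mp hfix.symm
    have hc : Nat.Coprime 2 (Nat.card K) := (Nat.coprime_two_left).mpr hK
    exact (orderOf_eq_one_iff).mp (Nat.eq_one_of_dvd_coprimes hc (orderOf_dvd_of_pow_eq_one h2)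
      (orderOf_dvd_natCard a))
  · simpa using ha

theorem coeff_eq_zero_of_nilpotent (hK : Odd (Nat.card K)) {y : (ZMod 2)[K]} (hy : IsNilpotent y) :
    y.coeff 1 = 0 := by
  obtain ⟨n, hn⟩ := hy
  have h : ∀ m, (y ^ (2 ^ m)).coeff 1 = y.coeff 1 := by
    intro m
    induction m with
    | zero => simp
    | succ m ih => rw [pow_succ, pow_mul, pow_two, coeff_sq hK, ih]
  rw [← h n, pow_eq_zero_of_le (Nat.lt_two_pow_self).le hn]
  simp

theorem center_reduced (hK : Odd (Nat.card K)) {x : (ZMod 2)[K]}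
    (hx : x ∈ Subring.center (ZMod 2)[K]) (h : x ^ 2 = 0) : x = 0 := by
  refine MonoidAlgebra.ext (Finsupp.ext fun g => ?_)
  have hnil : IsNilpotent (x * MonoidAlgebra.of (ZMod 2) K g⁻¹) := by
    refine ⟨2, ?_⟩
    have hc : Commute x (MonoidAlgebra.of (ZMod 2) K g⁻¹) :=
      (Subring.mem_center_iff.mp hx _).symm
    rw [hc.mul_pow, h, zero_mul]
  have := coeff_eq_zero_of_nilpotent hK hnil
  simpa [MonoidAlgebra.of_apply] using this

/-- A central element with symmetric coefficients vanishing at `1` is a sum `h + antip h`. -/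
theorem exists_trace_form (hK : Odd (Nat.card K)) {f : (ZMod 2)[K]}
    (hf : f ∈ Subring.center (ZMod 2)[K]) (hsym : antip f = f) (h1 : f.coeff 1 = 0) :
    ∃ h ∈ Subring.center (ZMod 2)[K], f = h + antip h := by
  classical
  haveI : Finite (ConjClasses K) := Finite.of_surjective ConjClasses.mk ConjClasses.mk_surjective
  haveI : Fintype (ConjClasses K) := Fintype.ofFinite _
  let num : ConjClasses K → ℕ := fun c => (Fintype.equivFin (ConjClasses K) c).val
  have hnum : Function.Injective num := fun a b h =>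
    (Fintype.equivFin (ConjClasses K)).injective (Fin.ext h)
  have hne : ∀ g : K, g ≠ 1 → ConjClasses.mk g⁻¹ ≠ ConjClasses.mk g := by
    intro g hg1 h
    obtain ⟨a, ha⟩ := isConj_iff.mp (ConjClasses.mk_eq_mk_iff_isConj.mp h.symm)
    -- `a` inverts `g`, so `a ^ 2` centralizes it, hence so does `a`
    obtain ⟨m, hm⟩ := hK
    have hc2 : Commute (a ^ 2) g := by
      show a ^ 2 * g = g * a ^ 2
      have e1 : a * g = g⁻¹ * a := mul_inv_eq_iff_eq_mul.mp ha
      have e2 : a * g⁻¹ = g * a := by
        refine mul_inv_eq_iff_eq_mul.mp ?_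
        rw [show a * g⁻¹ * a⁻¹ = (a * g * a⁻¹)⁻¹ by group, ha, inv_inv]
      rw [pow_two, mul_assoc, e1, ← mul_assoc, e2, mul_assoc]
    have hca : Commute a g := by
      have hpow : a ^ (2 * m + 1) = 1 := hm ▸ pow_card_eq_one'
      have : a = ((a ^ 2) ^ m)⁻¹ := by
        rw [eq_inv_iff_mul_eq_one, ← pow_mul, ← pow_succ']; exact hpow
      rw [this]
      exact (hc2.pow_left m).inv_left
    rw [hca.eq, mul_inv_cancel_right] at ha
    have h2 : g ^ 2 = 1 := by rw [pow_two]; exact eq_inv_iff_mul_eq_one.mp ha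
    exact hg1 ((orderOf_eq_one_iff).mp (Nat.eq_one_of_dvd_coprimes
      ((Nat.coprime_two_left).mpr ⟨m, hm⟩) (orderOf_dvd_of_pow_eq_one h2) (orderOf_dvd_natCard g)))
  let hfun : K → ZMod 2 := fun g =>
    if num (ConjClasses.mk g) < num (ConjClasses.mk g⁻¹) then f.coeff g else 0
  let h : (ZMod 2)[K] := MonoidAlgebra.ofCoeff (Finsupp.equivFunOnFinite.symm hfun)
  have hh : ∀ g, h.coeff g = hfun g := fun g => rfl
  refine ⟨h, central_of_coeff fun a g => ?_, MonoidAlgebra.ext (Finsupp.ext fun g => ?_)⟩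
  · have e1 : ConjClasses.mk (a * g * a⁻¹) = ConjClasses.mk g :=
      ConjClasses.mk_eq_mk_iff_isConj.mpr (isConj_iff.mpr ⟨a⁻¹, by group⟩)
    have e2 : ConjClasses.mk (a * g * a⁻¹)⁻¹ = ConjClasses.mk g⁻¹ :=
      ConjClasses.mk_eq_mk_iff_isConj.mpr (isConj_iff.mpr ⟨a⁻¹, by group⟩)
    simp only [hh, hfun, e1, e2, coeff_central hf]
  · rw [MonoidAlgebra.coeff_add, Finsupp.add_apply, coeff_antip, hh, hh]
    simp only [hfun, inv_inv]
    have hs : f.coeff g⁻¹ = f.coeff g := by rw [← coeff_antip, hsym]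
    by_cases hg1 : g = 1
    · subst hg1; simp [h1]
    · rcases lt_trichotomy (num (ConjClasses.mk g)) (num (ConjClasses.mk g⁻¹)) with hl | he | hr
      · rw [if_pos hl, if_neg (not_lt.mpr hl.le), add_zero]
      · exact absurd (hnum he).symm (hne g hg1)
      · rw [if_neg (not_lt.mpr hr.le), if_pos hr, zero_add, hs]

/-- If the augmentation idempotent acts as zero, the antipode acts non-trivially on the image of
the centre. -/
theorem exists_antip_ne {R : Type*} [Ring R] [Nontrivial R] [Algebra (ZMod 2) R]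
    (hK : Odd (Nat.card K)) (φ : (ZMod 2)[K] →ₐ[ZMod 2] R)
    (h0 : φ (∑ k : K, MonoidAlgebra.of (ZMod 2) K k) = 0)
    (hker : ∀ x ∈ Subring.center (ZMod 2)[K], φ x = 0 → φ (antip x) = 0) :
    ∃ w ∈ Subring.center (ZMod 2)[K], φ (antip w) ≠ φ w := by
  classical
  haveI : Finite (ZMod 2)[K] :=
    Finite.of_injective (fun x : (ZMod 2)[K] => (x.coeff : K → ZMod 2))
      (DFunLike.coe_injective.comp MonoidAlgebra.coeff_injective)
  by_contra hcon
  push Not at hcon
  set Z := Subring.center (ZMod 2)[K]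
  haveI : Fintype Z := Fintype.ofFinite Z
  have hred : ∀ x : Z, x ^ 2 = 0 → x = 0 := fun x hx =>
    Subtype.ext (center_reduced hK x.2 (congrArg Subtype.val hx))
  choose eI heI hrI hmI using fun x : Z => exists_idem_mul_self hred x
  set J := Finset.univ.filter fun x : Z => φ (x : (ZMod 2)[K]) = 0
  set j : Z := 1 - ∏ x ∈ J, (1 - eI x) with hj
  have hjj : j * j = j := by
    have hP : (∏ x ∈ J, (1 - eI x)) * ∏ x ∈ J, (1 - eI x) = ∏ x ∈ J, (1 - eI x) := by
      rw [← Finset.prod_mul_distrib]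
      refine Finset.prod_congr rfl fun x _ => ?_
      linear_combination heI x
    linear_combination hP
  have hjabs : ∀ x : Z, φ (x : (ZMod 2)[K]) = 0 → j * x = x := by
    intro x hx
    have hxJ : x ∈ J := Finset.mem_filter.mpr ⟨Finset.mem_univ _, hx⟩
    have : (∏ y ∈ J, (1 - eI y)) * x = 0 := by
      rw [← Finset.mul_prod_erase _ _ hxJ, mul_comm (1 - eI x), mul_assoc, sub_mul, one_mul, hmI,
        sub_self, mul_zero]
    rw [hj, sub_mul, one_mul, this, sub_zero]
  have hjker : φ (j : (ZMod 2)[K]) = 0 := by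
    have hP : φ ((∏ x ∈ J, (1 - eI x) : Z) : (ZMod 2)[K]) = 1 := by
      have : ∀ s : Finset Z, s ⊆ J → φ ((∏ x ∈ s, (1 - eI x) : Z) : (ZMod 2)[K]) = 1 := by
        intro s
        induction s using Finset.induction_on with
        | empty => intro _; simp
        | insert a s has ih =>
          intro hs
          rw [Finset.prod_insert has]
          obtain ⟨r, hr⟩ := hrI a
          have ha : φ (a : (ZMod 2)[K]) = 0 :=
            (Finset.mem_filter.mp (hs (Finset.mem_insert_self a s))).2
          simp [hr, ha, ih ((Finset.subset_insert a s).trans hs)]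
      exact this J subset_rfl
    rw [hj, AddSubgroupClass.coe_sub, OneMemClass.coe_one, map_sub, map_one, hP, sub_self]
  let σ : Z → Z := fun x => ⟨antip (x : (ZMod 2)[K]), antip_central x.2⟩
  have hσmul : ∀ x y, σ (x * y) = σ x * σ y := fun x y => by
    refine Subtype.ext ?_
    show antip ((x : (ZMod 2)[K]) * (y : (ZMod 2)[K])) = antip (x : (ZMod 2)[K]) * antip (y : (ZMod 2)[K])
    rw [antip_mul]
    exact (Subring.mem_center_iff.mp (antip_central x.2) _)
  have hσσ : ∀ x, σ (σ x) = x := fun x => Subtype.ext (antip_antip _)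
  have hσj : σ j = j := by
    have h1 : j * σ j = σ j := hjabs _ (hker _ j.2 hjker)
    have h2 := congrArg σ h1
    rw [hσmul, hσσ, mul_comm, h1] at h2
    exact h2.symm ▸ rfl
  set e' : Z := 1 - j
  have hsub : ∀ h : Z, e' * (h + σ h) = 0 := by
    intro h
    have hh : φ ((h + σ h : Z) : (ZMod 2)[K]) = 0 := by
      show φ ((h : (ZMod 2)[K]) + antip (h : (ZMod 2)[K])) = 0
      rw [map_add, hcon h h.2, ← two_smul (ZMod 2), show (2 : ZMod 2) = 0 from rfl, zero_smul]
    show (1 - j) * _ = 0
    rw [sub_mul, one_mul, hjabs _ hh, sub_self]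
  have hee : e' * e' = e' := by show (1 - j) * (1 - j) = 1 - j; linear_combination hjj
  have hσ1 : antip (1 : (ZMod 2)[K]) = 1 := by
    simp [antip, MonoidAlgebra.one_def]
  have hσe : antip (e' : (ZMod 2)[K]) = e' := by
    show antip (((1 - j : Z)) : (ZMod 2)[K]) = ((1 - j : Z) : (ZMod 2)[K])
    have hj' : antip (j : (ZMod 2)[K]) = j := congrArg Subtype.val hσj
    rw [AddSubgroupClass.coe_sub, OneMemClass.coe_one]
    refine MonoidAlgebra.ext (Finsupp.ext fun g => ?_)
    rw [coeff_antip, MonoidAlgebra.coeff_sub, Finsupp.sub_apply, Finsupp.sub_apply, ← coeff_antip,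
      ← coeff_antip, hσ1, hj']
  have hφe : φ (e' : (ZMod 2)[K]) = 1 := by
    show φ (((1 - j : Z)) : (ZMod 2)[K]) = 1
    rw [AddSubgroupClass.coe_sub, OneMemClass.coe_one, map_sub, map_one, hjker, sub_zero]
  have hne : e' ≠ 0 := fun h => by
    rw [h, ZeroMemClass.coe_zero, map_zero] at hφe
    exact zero_ne_one hφe
  set e0 : (ZMod 2)[K] := ∑ k : K, MonoidAlgebra.of (ZMod 2) K k
  have he0c : ∀ g, e0.coeff g = 1 := fun g => by
    simp [e0, MonoidAlgebra.coeff_sum, Finsupp.finsetSum_apply, MonoidAlgebra.of_apply]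
  rcases zmod_two' ((e' : (ZMod 2)[K]).coeff 1) with h1 | h1
  · obtain ⟨h, hh, heq⟩ := exists_trace_form hK e'.2 hσe h1
    have : e' = ⟨h, hh⟩ + σ ⟨h, hh⟩ := Subtype.ext heq
    apply hne
    rw [← hee]
    nth_rw 2 [this]
    exact hsub _
  · have he0Z : e0 ∈ Z := central_of_coeff fun a g => by rw [he0c, he0c]
    obtain ⟨h, hh, heq⟩ := exists_trace_form hK (add_mem e'.2 he0Z) (by
      rw [antip_add, hσe]; congr 1
      exact MonoidAlgebra.ext (Finsupp.ext fun g => by rw [coeff_antip, he0c, he0c]))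
      (by rw [MonoidAlgebra.coeff_add, Finsupp.add_apply, h1, he0c, CharTwo.add_self_eq_zero])
    have h2 : e' + ⟨e0, he0Z⟩ = ⟨h, hh⟩ + σ ⟨h, hh⟩ := Subtype.ext heq
    have h3 : j * (⟨e0, he0Z⟩ : Z) = ⟨e0, he0Z⟩ := hjabs _ h0
    have h4 := hsub ⟨h, hh⟩
    rw [← h2, mul_add, hee] at h4
    have h5 : e' * (⟨e0, he0Z⟩ : Z) = 0 := by
      show (1 - j) * _ = 0
      rw [sub_mul, one_mul, h3, sub_self]
    rw [h5, add_zero] at h4
    exact hne h4
where
  zmod_two' (c : ZMod 2) : c = 0 ∨ c = 1 := by revert c; decide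

end Cfsg.Agent.DadeTwo
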