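import Cfsg.Agent.Lib.Char.DadeTwo.Basic
import Cfsg.Agent.Lib.Char.DadeTwo.Center
import Mathlib.Algebra.MonoidAlgebra.Basic

/-!
# The image of the centre of the group algebra on the symplectic space
-/

set_option autoImplicit false
set_option linter.unusedSectionVars false
set_option linter.style.haveILetI false
set_option linter.unusedSimpArgs false

namespace Cfsg.Agent.DadeTwo

open scoped MonoidAlgebra

universe u

variable {E : Type u} [Group E] [Finite E] {z : E} (hg : Good z) (K : Subgroup (MulAut E))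

/-- The representation on the symplectic space. -/
noncomputable def psi : (ZMod 2)[K] →ₐ[ZMod 2] Module.End (ZMod 2) (Vsp hg) :=
  MonoidAlgebra.lift (ZMod 2) (Module.End (ZMod 2) (Vsp hg)) K ((aVHom hg).comp K.subtype)

theorem psi_of (k : K) : psi hg K (MonoidAlgebra.of (ZMod 2) K k) = aV hg (k : MulAut E) := by
  simp [psi, MonoidAlgebra.of_apply, aVHom]

/-- The operators coming from the centre of the group algebra. -/
noncomputable def Aalg : Subalgebra (ZMod 2) (Module.End (ZMod 2) (Vsp hg)) :=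
  (Subalgebra.center (ZMod 2) (ZMod 2)[K]).map (psi hg K)

theorem mem_Aalg {T : Module.End (ZMod 2) (Vsp hg)} :
    T ∈ Aalg hg K ↔ ∃ x ∈ Subring.center (ZMod 2)[K], psi hg K x = T := by
  simp only [Aalg, Subalgebra.mem_map, Subalgebra.mem_center_iff, Subring.mem_center_iff]

variable {hg K}

theorem Aalg_comm {T U : Module.End (ZMod 2) (Vsp hg)} (hT : T ∈ Aalg hg K) (hU : U ∈ Aalg hg K) :
    Commute T U := by
  obtain ⟨x, hx, rfl⟩ := (mem_Aalg hg K).mp hT
  obtain ⟨y, -, rfl⟩ := (mem_Aalg hg K).mp hU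
  exact (show Commute x y from (Subring.mem_center_iff.mp hx y).symm).map (psi hg K)

theorem Aalg_commute_K {T : Module.End (ZMod 2) (Vsp hg)} (hT : T ∈ Aalg hg K) {k : MulAut E}
    (hk : k ∈ K) : Commute T (aV hg k) := by
  obtain ⟨x, hx, rfl⟩ := (mem_Aalg hg K).mp hT
  rw [← psi_of hg K ⟨k, hk⟩]
  exact (show Commute x _ from (Subring.mem_center_iff.mp hx _).symm).map (psi hg K)

theorem B_psi (x : (ZMod 2)[K]) (v w : Vsp hg) :
    B hg (psi hg K x v) w = B hg v (psi hg K (antip x) w) := by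
  induction x using MonoidAlgebra.induction_on with
  | of k => rw [antip_of, psi_of, psi_of, Subgroup.coe_inv, B_aV_left]
  | add a b ha hb => simp only [antip_add, map_add, LinearMap.add_apply, ha, hb]
  | smul r a ha => simp only [antip_smul, map_smul, LinearMap.smul_apply, ha]

/-- Adjointness. -/
def IsAdj (T T' : Module.End (ZMod 2) (Vsp hg)) : Prop :=
  ∀ v w, B hg (T v) w = B hg v (T' w)

theorem IsAdj.unique {T T' T'' : Module.End (ZMod 2) (Vsp hg)} (h : IsAdj T T') (h' : IsAdj T T'') :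
    T' = T'' := by
  refine LinearMap.ext fun w => ?_
  rw [← sub_eq_zero]
  refine eq_zero_of_B hg fun v => ?_
  rw [B_symm, map_sub, ← h v w, ← h' v w, sub_self]

theorem IsAdj.symm {T T' : Module.End (ZMod 2) (Vsp hg)} (h : IsAdj T T') : IsAdj T' T :=
  fun v w => by rw [B_symm, ← h, B_symm]

theorem IsAdj.mul {T T' U U' : Module.End (ZMod 2) (Vsp hg)} (h : IsAdj T T') (h' : IsAdj U U') :
    IsAdj (T * U) (U' * T') := fun v w => by
  rw [Module.End.mul_apply, h, h', Module.End.mul_apply]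

theorem IsAdj.one : IsAdj (1 : Module.End (ZMod 2) (Vsp hg)) 1 := fun _ _ => rfl

theorem IsAdj.add {T T' U U' : Module.End (ZMod 2) (Vsp hg)} (h : IsAdj T T') (h' : IsAdj U U') :
    IsAdj (T + U) (T' + U') := fun v w => by
  simp only [LinearMap.add_apply, map_add, h v w, h' v w]

theorem exists_adj {T : Module.End (ZMod 2) (Vsp hg)} (hT : T ∈ Aalg hg K) :
    ∃ T' ∈ Aalg hg K, IsAdj T T' := by
  obtain ⟨x, hx, rfl⟩ := (mem_Aalg hg K).mp hT
  exact ⟨_, (mem_Aalg hg K).mpr ⟨antip x, antip_central hx, rfl⟩, B_psi x⟩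

theorem IsAdj.conj {T T' : Module.End (ZMod 2) (Vsp hg)} (h : IsAdj T T') (a : MulAut E) :
    IsAdj (aV hg a * T * aV hg a⁻¹) (aV hg a * T' * aV hg a⁻¹) := fun v w => by
  simp only [Module.End.mul_apply]
  rw [B_aV_left, h, B_aV_left, inv_inv]

/-- Some element of the image of the centre is not self-adjoint. -/
theorem exists_not_selfAdj (hK : Odd (Nat.card K)) (hfpf : Fpf z K) [Nontrivial (Vsp hg)] :
    ∃ T ∈ Aalg hg K, ∀ T', IsAdj T T' → T' ≠ T := by
  classical
  haveI : Fintype K := Fintype.ofFinite K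
  have h0 : psi hg K (∑ k : K, MonoidAlgebra.of (ZMod 2) K k) = 0 := by
    refine LinearMap.ext fun v => ?_
    rw [map_sum, LinearMap.sum_apply, LinearMap.zero_apply]
    simp only [psi_of]
    rw [← sum_aV_eq_zero hg hfpf v, kl, Finset.sum_map_toList]
    refine Finset.sum_bij (fun k _ => (k : MulAut E)) (fun k _ => by simp) (fun a _ b _ h => Subtype.ext h)
      (fun b hb => ⟨⟨b, by simpa using hb⟩, Finset.mem_univ _, rfl⟩) (fun _ _ => rfl)
  obtain ⟨w, hw, hne⟩ := exists_antip_ne hK (psi hg K) h0 (fun x _ hx0 => by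
    refine IsAdj.unique (B_psi (hg := hg) x) ?_
    rw [hx0]
    intro v v'
    simp)
  refine ⟨_, (mem_Aalg hg K).mpr ⟨w, hw, rfl⟩, fun T' hT' hTT => hne ?_⟩
  rw [IsAdj.unique (B_psi (hg := hg) w) hT', hTT]

/-- Conjugation by a normalizing automorphism preserves the image of the centre. -/
theorem conj_mem_Aalg {a : MulAut E} (ha : ∀ k, a * k * a⁻¹ ∈ K ↔ k ∈ K)
    {T : Module.End (ZMod 2) (Vsp hg)} (hT : T ∈ Aalg hg K) :
    aV hg a * T * aV hg a⁻¹ ∈ Aalg hg K := by
  obtain ⟨x, hx, rfl⟩ := (mem_Aalg hg K).mp hT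
  let c : K ≃* K :=
    { toFun := fun k => ⟨a * k * a⁻¹, (ha k).mpr k.2⟩
      invFun := fun k => ⟨a⁻¹ * k * a, (ha _).mp (by
        rw [show a * (a⁻¹ * (k : MulAut E) * a) * a⁻¹ = k by group]; exact k.2)⟩
      left_inv := fun k => Subtype.ext (by
        show a⁻¹ * (a * (k : MulAut E) * a⁻¹) * a = k
        group)
      right_inv := fun k => Subtype.ext (by
        show a * (a⁻¹ * (k : MulAut E) * a) * a⁻¹ = k
        group)
      map_mul' := fun k l => Subtype.ext (by
        show a * ((k : MulAut E) * l) * a⁻¹ = (a * k * a⁻¹) * (a * l * a⁻¹)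
        group) }
  set γ := MonoidAlgebra.domCongr (ZMod 2) (ZMod 2) c
  have key : ∀ y : (ZMod 2)[K], psi hg K (γ y) = aV hg a * psi hg K y * aV hg a⁻¹ := by
    intro y
    induction y using MonoidAlgebra.induction_on with
    | of k =>
      rw [show γ (MonoidAlgebra.of (ZMod 2) K k) = MonoidAlgebra.of (ZMod 2) K (c k) by
        simp [γ, MonoidAlgebra.of_apply], psi_of, psi_of, ← aV_mul, ← aV_mul]
      rfl
    | add p q hp hq => simp only [map_add, hp, hq, mul_add, add_mul]
    | smul r p hp => simp only [map_smul, hp, mul_smul_comm, smul_mul_assoc]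
  refine (mem_Aalg hg K).mpr ⟨γ x, Subring.mem_center_iff.mpr fun y => ?_, key x⟩
  rw [← γ.apply_symm_apply y, ← map_mul, ← map_mul, Subring.mem_center_iff.mp hx]

theorem conj_mul (a : MulAut E) (T U : Module.End (ZMod 2) (Vsp hg)) :
    (aV hg a * T * aV hg a⁻¹) * (aV hg a * U * aV hg a⁻¹) = aV hg a * (T * U) * aV hg a⁻¹ := by
  have h : aV hg a⁻¹ * aV hg a = 1 := by rw [← aV_mul, inv_mul_cancel, aV_one]
  simp only [mul_assoc]
  rw [← mul_assoc (aV hg a⁻¹) (aV hg a), h, one_mul]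

theorem conj_one (a : MulAut E) :
    aV hg a * (1 : Module.End (ZMod 2) (Vsp hg)) * aV hg a⁻¹ = 1 := by
  rw [mul_one, ← aV_mul, mul_inv_cancel, aV_one]

theorem conj_conj (a b : MulAut E) (T : Module.End (ZMod 2) (Vsp hg)) :
    aV hg a * (aV hg b * T * aV hg b⁻¹) * aV hg a⁻¹ = aV hg (a * b) * T * aV hg (a * b)⁻¹ := by
  rw [mul_inv_rev, aV_mul, aV_mul]
  simp only [mul_assoc]

theorem conj_eq_iff (a : MulAut E) (T : Module.End (ZMod 2) (Vsp hg)) :
    aV hg a * T * aV hg a⁻¹ = T ↔ Commute T (aV hg a) := by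
  have h : aV hg a⁻¹ * aV hg a = 1 := by rw [← aV_mul, inv_mul_cancel, aV_one]
  have h' : aV hg a * aV hg a⁻¹ = 1 := by rw [← aV_mul, mul_inv_cancel, aV_one]
  constructor
  · intro e
    show T * aV hg a = aV hg a * T
    nth_rw 1 [← e]
    rw [mul_assoc, h, mul_one]
  · intro e
    rw [← e.eq, mul_assoc, h', mul_one]

end Cfsg.Agent.DadeTwo
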