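import Cfsg.Agent.Lib.Char.DadeTwo.Basic
import Mathlib.Algebra.MonoidAlgebra.Basic
import Mathlib.Algebra.MonoidAlgebra.Module
import Mathlib.LinearAlgebra.Trace
import Mathlib.LinearAlgebra.Eigenspace.Triangularizable
import Mathlib.Analysis.Complex.Polynomial.Basic
import Mathlib.Analysis.SpecialFunctions.Pow.Complex
import Mathlib.LinearAlgebra.FiniteDimensional.Basic

/-!
# Idempotents of rank one in the group algebra of a group with centre of order two
-/

set_option autoImplicit false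
set_option linter.unusedSectionVars false
set_option linter.style.haveILetI false
set_option linter.unusedSimpArgs false

namespace Cfsg.Agent.DadeTwo

open scoped MonoidAlgebra

universe u

variable {E : Type u} [Group E] {z : E}

/-- A rank one idempotent on which `z` acts by `-1`. -/
structure Rank1 (z : E) (p : ℂ[E]) : Prop where
  ne : p ≠ 0
  idem : p * p = p
  neg : MonoidAlgebra.of ℂ E z * p = -p
  scalar : ∀ x : E, ∃ c : ℂ, p * MonoidAlgebra.of ℂ E x * p = c • p

/-- The action of an automorphism on the group algebra. -/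
noncomputable abbrev alg (a : MulAut E) : ℂ[E] ≃ₐ[ℂ] ℂ[E] := MonoidAlgebra.domCongr ℂ ℂ a

theorem alg_of (a : MulAut E) (x : E) :
    alg a (MonoidAlgebra.of ℂ E x) = MonoidAlgebra.of ℂ E (a x) := by
  simp [MonoidAlgebra.of_apply]

theorem alg_one (p : ℂ[E]) : alg (1 : MulAut E) p = p := by
  refine MonoidAlgebra.ext (Finsupp.ext fun g => ?_)
  simp [alg]
  rfl

theorem alg_mul (a b : MulAut E) (p : ℂ[E]) : alg (a * b) p = alg a (alg b p) := by
  refine MonoidAlgebra.ext (Finsupp.ext fun g => ?_)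
  simp [alg]
  rfl

/-- Elements commuting with every group element are central. -/
theorem commute_of_forall {a : ℂ[E]} (h : ∀ g, Commute a (MonoidAlgebra.of ℂ E g)) (b : ℂ[E]) :
    Commute a b := by
  induction b using MonoidAlgebra.induction_on with
  | of m => exact h m
  | add x y hx hy => exact hx.add_right hy
  | smul r x hx => exact hx.smul_right r

theorem z_commute (hg : Good z) (a : ℂ[E]) : Commute (MonoidAlgebra.of ℂ E z) a :=
  commute_of_forall (fun g => (hg.cz g).map (MonoidAlgebra.of ℂ E)) a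

theorem Rank1.neg_right {p : ℂ[E]} (hp : Rank1 z p) (hg : Good z) :
    p * MonoidAlgebra.of ℂ E z = -p := by
  rw [← (z_commute hg p).eq, hp.neg]

theorem Rank1.scalar_all {p : ℂ[E]} (hp : Rank1 z p) (y : ℂ[E]) : ∃ c : ℂ, p * y * p = c • p := by
  induction y using MonoidAlgebra.induction_on with
  | of m => exact hp.scalar m
  | add x y hx hy =>
    obtain ⟨c, hc⟩ := hx
    obtain ⟨d, hd⟩ := hy
    exact ⟨c + d, by rw [mul_add, add_mul, hc, hd, add_smul]⟩
  | smul r x hx =>
    obtain ⟨c, hc⟩ := hx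
    exact ⟨r * c, by rw [mul_smul_comm, smul_mul_assoc, hc, smul_smul]⟩

theorem coeff_z_mul (b : ℂ[E]) (h : E) :
    (MonoidAlgebra.of ℂ E z * b).coeff h = b.coeff (z⁻¹ * h) := by
  simp [MonoidAlgebra.of_apply]

theorem coeff_shift (hg : Good z) {b : ℂ[E]} (hb : MonoidAlgebra.of ℂ E z * b = -b) (h : E) :
    b.coeff (h * z) = -b.coeff h := by
  have := congrArg (fun c : ℂ[E] => c.coeff h) hb
  rw [show (MonoidAlgebra.of ℂ E z * b).coeff h = b.coeff (z⁻¹ * h) from coeff_z_mul b h] at this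
  rw [show h * z = z⁻¹ * h by rw [inv_eq_of_mul_eq_one_right hg.sq, (hg.cz h).eq]]
  simpa using this

theorem coeff_mul_comm (x y : ℂ[E]) : (x * y).coeff 1 = (y * x).coeff 1 := by
  induction x using MonoidAlgebra.induction_on with
  | of m => simp [MonoidAlgebra.of_apply]
  | add a b ha hb => simp [add_mul, mul_add, ha, hb]
  | smul r a ha => simp [ha]

variable [Fintype E]

/-- The average of the conjugates of an element of the minus part. -/
theorem conjSum (hg : Good z) {b : ℂ[E]} (hb : MonoidAlgebra.of ℂ E z * b = -b) :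
    ∑ x : E, MonoidAlgebra.of ℂ E x * b * MonoidAlgebra.of ℂ E x⁻¹ =
      ((Fintype.card E : ℂ) * b.coeff 1) • (1 - MonoidAlgebra.of ℂ E z) := by
  classical
  refine MonoidAlgebra.ext (Finsupp.ext fun h => ?_)
  rw [MonoidAlgebra.coeff_sum, Finsupp.finsetSum_apply]
  have hterm : ∀ x : E, (MonoidAlgebra.of ℂ E x * b * MonoidAlgebra.of ℂ E x⁻¹).coeff h =
      b.coeff (x⁻¹ * (h * x)) := fun x => by simp [MonoidAlgebra.of_apply]
  simp only [hterm]
  have hR : (((Fintype.card E : ℂ) * b.coeff 1) • (1 - MonoidAlgebra.of ℂ E z)).coeff h =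
      ((Fintype.card E : ℂ) * b.coeff 1) * ((if h = 1 then 1 else 0) - if h = z then 1 else 0) := by
    simp [MonoidAlgebra.of_apply, MonoidAlgebra.one_def, Finsupp.single_apply, eq_comm (a := h)]
  rw [hR]
  by_cases hZ : InZ z h
  · have hc : ∀ x : E, b.coeff (x⁻¹ * (h * x)) = b.coeff h := fun x => by
      rw [(hZ.commute hg x).eq, inv_mul_cancel_left]
    rw [Finset.sum_congr rfl fun x _ => hc x, Finset.sum_const, Finset.card_univ, nsmul_eq_mul]
    rcases hZ with rfl | rfl
    · rw [if_pos rfl, if_neg hg.ne.symm]; ring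
    · rw [if_neg hg.ne, if_pos rfl]
      have := coeff_shift hg hb 1
      rw [one_mul] at this
      rw [this]; ring
  · rw [if_neg fun e => hZ (Or.inl e), if_neg fun e => hZ (Or.inr e), sub_zero, mul_zero]
    obtain ⟨w, hw⟩ : ∃ w, ¬ Commute h w := by
      by_contra hcon
      push Not at hcon
      exact hZ (hg.center h hcon)
    have hwz : h * w = w * h * z := (hg.comm h w).resolve_left hw
    have hneg : ∀ x : E, b.coeff ((w * x)⁻¹ * (h * (w * x))) = -b.coeff (x⁻¹ * (h * x)) := by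
      intro x
      rw [← coeff_shift hg hb]
      congr 1
      calc (w * x)⁻¹ * (h * (w * x)) = x⁻¹ * w⁻¹ * ((h * w) * x) := by group
        _ = x⁻¹ * (h * (z * x)) := by rw [hwz]; group
        _ = x⁻¹ * (h * x) * z := by rw [(hg.cz x).eq]; group
    have hsum := Equiv.sum_comp (Equiv.mulLeft w) fun x => b.coeff (x⁻¹ * (h * x))
    simp only [Equiv.coe_mulLeft, hneg, Finset.sum_neg_distrib] at hsum
    linear_combination (1 / 2 : ℂ) * (-hsum)

/-- The minus part has no zero divisors in the sense of prime rings. -/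
theorem exists_mul_ne (hg : Good z) {a b : ℂ[E]} (ha : a ≠ 0)
    (haz : a * MonoidAlgebra.of ℂ E z = -a) (hb : b ≠ 0)
    (hbz : MonoidAlgebra.of ℂ E z * b = -b) : ∃ y, a * y * b ≠ 0 := by
  obtain ⟨g, hgne⟩ : ∃ g, b.coeff g ≠ 0 := by
    by_contra h
    push Not at h
    exact hb (MonoidAlgebra.ext (Finsupp.ext h))
  set b' := MonoidAlgebra.of ℂ E g⁻¹ * b with hb'
  have hbz' : MonoidAlgebra.of ℂ E z * b' = -b' := by
    rw [hb', ← mul_assoc, (z_commute hg _).eq, mul_assoc, hbz, mul_neg]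
  have h1 : b'.coeff 1 = b.coeff g := by simp [hb', MonoidAlgebra.of_apply]
  by_contra hcon
  push Not at hcon
  have hz : a * ∑ x : E, MonoidAlgebra.of ℂ E x * b' * MonoidAlgebra.of ℂ E x⁻¹ = 0 := by
    rw [Finset.mul_sum]
    refine Finset.sum_eq_zero fun x _ => ?_
    rw [hb', ← mul_assoc, ← mul_assoc, ← mul_assoc,
      mul_assoc a (MonoidAlgebra.of ℂ E x) (MonoidAlgebra.of ℂ E g⁻¹), hcon, zero_mul]
  rw [conjSum hg hbz', mul_smul_comm, mul_sub, mul_one, haz, sub_neg_eq_add, ← two_smul ℂ a,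
    smul_smul, smul_eq_zero] at hz
  refine hz.elim (fun h => ?_) ha
  rw [h1] at h
  simp [hgne] at h

theorem trace_mulRight (g p : ℂ[E]) :
    LinearMap.trace ℂ ℂ[E] (LinearMap.mulLeft ℂ g ∘ₗ LinearMap.mulRight ℂ p) =
      ∑ x : E, (g * MonoidAlgebra.of ℂ E x * p).coeff x := by
  classical
  rw [LinearMap.trace_eq_matrix_trace ℂ (MonoidAlgebra.basis E ℂ), Matrix.trace]
  refine Finset.sum_congr rfl fun x _ => ?_
  simp [LinearMap.toMatrix_apply, MonoidAlgebra.basis, MonoidAlgebra.of_apply, mul_assoc]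

/-- A nonzero idempotent has positive coefficient at `1`. -/
theorem coeff_one_eq {p : ℂ[E]} (hp : p ≠ 0) (hidem : p * p = p) :
    ∃ d : ℕ, 0 < d ∧ (Fintype.card E : ℂ) * p.coeff 1 = d := by
  haveI : Module.Finite ℂ ℂ[E] := Module.Finite.of_basis (MonoidAlgebra.basis E ℂ)
  set f := LinearMap.mulRight ℂ p
  have hproj : LinearMap.IsProj (LinearMap.range f) f := by
    refine ⟨fun x => LinearMap.mem_range_self f x, ?_⟩
    rintro _ ⟨y, rfl⟩
    show y * p * p = y * p
    rw [mul_assoc, hidem]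
  have hne : LinearMap.range f ≠ ⊥ := by
    intro h
    apply hp
    have := LinearMap.range_eq_bot.mp h
    simpa [f, hidem] using LinearMap.congr_fun this p
  refine ⟨Module.finrank ℂ (LinearMap.range f), ?_, ?_⟩
  · haveI : Nontrivial (LinearMap.range f) := Submodule.nontrivial_iff_ne_bot.mpr hne
    exact Module.finrank_pos
  · rw [← hproj.trace]
    have hf : f = LinearMap.mulLeft ℂ (1 : ℂ[E]) ∘ₗ LinearMap.mulRight ℂ p := by simp [f]
    conv_rhs => rw [hf, trace_mulRight]
    simp [MonoidAlgebra.of_apply]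

theorem coeff_one_ne {p : ℂ[E]} (hp : p ≠ 0) (hidem : p * p = p) : p.coeff 1 ≠ 0 := by
  obtain ⟨d, hd0, hd⟩ := coeff_one_eq hp hidem
  intro h
  rw [h, mul_zero, eq_comm, Nat.cast_eq_zero] at hd
  omega

/-- The square of the coefficient at `1`. -/
theorem Rank1.card_coeff {p : ℂ[E]} (hp : Rank1 z p) (hg : Good z) :
    2 * (Fintype.card E : ℂ) * (p.coeff 1) ^ 2 = 1 := by
  classical
  set ι := MonoidAlgebra.of ℂ E
  have h1 := coeff_one_ne hp.ne hp.idem
  have hc : ∀ x : E, p * ι x * p = (p.coeff x⁻¹ / p.coeff 1) • p := by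
    intro x
    obtain ⟨c, hc⟩ := hp.scalar x
    have := congrArg (fun y : ℂ[E] => y.coeff 1) hc
    rw [coeff_mul_comm, ← mul_assoc, hp.idem] at this
    have hx : (p * ι x).coeff 1 = p.coeff x⁻¹ := by simp [ι, MonoidAlgebra.of_apply]
    rw [hx, MonoidAlgebra.coeff_smul_apply, smul_eq_mul] at this
    rw [hc, this, mul_div_assoc, div_self h1, mul_one]
  have hL : p * (∑ x : E, ι x * p * ι x⁻¹) * p =
      ((Fintype.card E : ℂ) * p.coeff 1 * 2) • p := by
    rw [conjSum hg hp.neg, mul_smul_comm, smul_mul_assoc, mul_sub, mul_one, hp.neg_right hg,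
      sub_neg_eq_add, add_mul, hp.idem, ← two_smul ℂ p, smul_smul]
  have hR : p * (∑ x : E, ι x * p * ι x⁻¹) * p =
      ((∑ x : E, p.coeff x⁻¹ * p.coeff x) / (p.coeff 1) ^ 2) • p := by
    rw [Finset.mul_sum, Finset.sum_mul, Finset.sum_div, Finset.sum_smul]
    refine Finset.sum_congr rfl fun x _ => ?_
    calc p * (ι x * p * ι x⁻¹) * p = (p * ι x * p) * ι x⁻¹ * p := by simp only [mul_assoc]
      _ = (p.coeff x⁻¹ / p.coeff 1) • (p * ι x⁻¹ * p) := by
          rw [hc x, smul_mul_assoc, smul_mul_assoc]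
      _ = _ := by rw [hc x⁻¹, inv_inv, smul_smul]; congr 1; field_simp
  have hpp : ∑ x : E, p.coeff x⁻¹ * p.coeff x = p.coeff 1 := by
    conv_rhs => rw [← hp.idem]
    rw [MonoidAlgebra.coeff_mul_apply_right, Finsupp.sum_fintype _ _ (by simp)]
    simp
  have := smul_left_injective ℂ hp.ne (hL.symm.trans hR)
  simp only [hpp] at this
  field_simp at this
  linear_combination this

omit [Fintype E]

/-- Two linked idempotents give one which is symmetric in them. -/
theorem exists_sym (hg : Good z) {a b : ℂ[E]} (ha : Rank1 z a) (hb : Rank1 z b) {κ : ℝ}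
    (hκ : 0 < κ) (haba : a * b * a = (κ : ℂ) • a) (hbab : b * a * b = (κ : ℂ) • b) :
    ∃ c N : ℂ, Rank1 z (N • (a + b + c • (a * b + b * a))) := by
  set r : ℝ := Real.sqrt κ
  have hr : 0 < r := Real.sqrt_pos.mpr hκ
  set c : ℂ := (r : ℂ)
  have hc0 : c ≠ 0 := by simpa [c] using hr.ne'
  have hc2 : c * c = (κ : ℂ) := by
    simp only [c, ← Complex.ofReal_mul, r, Real.mul_self_sqrt hκ.le]
  set N : ℂ := 2 + 2 * c
  have hN : N ≠ 0 := by
    simp only [N, c]
    intro h
    have := congrArg Complex.re h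
    simp at this
    linarith
  set u := a + c⁻¹ • (b * a)
  set v := a + c⁻¹ • (a * b)
  have hua : u * a = u := by simp [u, add_mul, smul_mul_assoc, mul_assoc, ha.idem]
  have hav : a * v = v := by simp [v, mul_add, mul_smul_comm, ← mul_assoc, ha.idem]
  have hva : v * a = a + c • a := by
    simp only [v, add_mul, smul_mul_assoc, ha.idem, haba, smul_smul]
    congr 2
    rw [← hc2]; field_simp
  have hau : a * u = a + c • a := by
    simp only [u, mul_add, mul_smul_comm, ha.idem, ← mul_assoc, haba, smul_smul]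
    congr 2
    rw [← hc2]; field_simp
  have hvu : v * u = N • a := by
    have : v * u = (a + c • a) + c⁻¹ • ((v * b) * a) := by
      simp only [u, mul_add, mul_smul_comm, hva, mul_assoc]
    rw [this]
    have h2 : v * b = a * b + c⁻¹ • (a * b) := by
      simp only [v, add_mul, smul_mul_assoc, mul_assoc, hb.idem]
    rw [h2, add_mul, smul_mul_assoc, haba, smul_smul, ← hc2]
    simp only [N, add_smul, smul_add, smul_smul]
    have e1 : c⁻¹ * (c * c) = c := by field_simp
    have e2 : c⁻¹ * (c⁻¹ * (c * c)) = 1 := by field_simp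
    rw [e2, e1, two_mul, add_smul, one_smul, show (2 : ℂ) • a = a + a from two_smul ℂ a]
    abel
  have huv : u * v = a + b + c⁻¹ • (a * b + b * a) := by
    have h3 : b * a * (a * b) = (κ : ℂ) • b := by
      rw [← mul_assoc, mul_assoc b a a, ha.idem, hbab]
    simp only [u, v, add_mul, mul_add, smul_mul_assoc, mul_smul_comm, ha.idem, h3, smul_smul]
    rw [show a * (a * b) = a * b by rw [← mul_assoc, ha.idem],
      show b * a * a = b * a by rw [mul_assoc, ha.idem], ← hc2,
      show c⁻¹ * (c * c) = c by field_simp, smul_add, smul_smul, inv_mul_cancel₀ hc0, one_smul]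
    simp only [smul_add]
    abel
  refine ⟨c⁻¹, N⁻¹, ?_⟩
  rw [← huv]
  refine ⟨?_, ?_, ?_, fun x => ?_⟩
  · intro h
    have h' : v * (N⁻¹ • (u * v)) * u = 0 := by rw [h, mul_zero, zero_mul]
    have h4 : v * (u * v) * u = (v * u) * (v * u) := by simp only [mul_assoc]
    rw [mul_smul_comm, smul_mul_assoc, h4, hvu, smul_mul_smul_comm, ha.idem, smul_smul,
      smul_eq_zero] at h'
    refine h'.elim (fun h0 => ?_) ha.ne
    simp [hN] at h0
  · rw [smul_mul_smul_comm, show u * v * (u * v) = u * (v * u) * v by simp only [mul_assoc], hvu,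
      mul_smul_comm, hua, smul_mul_assoc, smul_smul]
    congr 1
    field_simp
  · have hzu : MonoidAlgebra.of ℂ E z * u = -u := by
      simp only [u, mul_add, mul_smul_comm, ha.neg, ← mul_assoc, hb.neg, neg_mul, smul_neg]
      abel
    rw [mul_smul_comm, ← mul_assoc, hzu, neg_mul, smul_neg]
  · obtain ⟨k, hk⟩ := ha.scalar_all (v * MonoidAlgebra.of ℂ E x * u)
    refine ⟨N⁻¹ * k, ?_⟩
    have hmid : v * MonoidAlgebra.of ℂ E x * u = k • a := by
      rw [← hk]
      conv_lhs => rw [← hav, ← hua]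
      simp only [mul_assoc]
    calc (N⁻¹ • (u * v)) * MonoidAlgebra.of ℂ E x * (N⁻¹ • (u * v))
        = (N⁻¹ * N⁻¹) • (u * (v * MonoidAlgebra.of ℂ E x * u) * v) := by
          simp only [smul_mul_assoc, mul_smul_comm, smul_smul, mul_assoc]
      _ = _ := by
          rw [hmid, mul_smul_comm, hua, smul_mul_assoc, smul_smul, smul_smul]
          congr 1
          ring

variable [Finite E]

/-- An algebra automorphism of finite order fixing `z` fixes some rank one idempotent. -/
theorem exists_fixed_cyclic (hg : Good z) (α : ℂ[E] ≃ₐ[ℂ] ℂ[E])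
    (hαz : α (MonoidAlgebra.of ℂ E z) = MonoidAlgebra.of ℂ E z) {n : ℕ} (hn : 0 < n)
    (hαn : ∀ x, (⇑α)^[n] x = x) {p₀ : ℂ[E]} (hp : Rank1 z p₀) :
    ∃ P, Rank1 z P ∧ α P = P := by
  haveI := Fintype.ofFinite E
  haveI : Module.Finite ℂ ℂ[E] := Module.Finite.of_basis (MonoidAlgebra.basis E ℂ)
  set ι := MonoidAlgebra.of ℂ E
  have hpz := hp.neg_right hg
  set p' := α p₀ with hp'
  have hp'ne : p' ≠ 0 := fun h => hp.ne ((map_eq_zero_iff α α.injective).mp h)
  have hp'z : p' * ι z = -p' := by rw [hp', ← hαz, ← map_mul, hpz, map_neg]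
  have hp'sc : ∀ y, ∃ c : ℂ, p' * y * p' = c • p' := by
    intro y
    obtain ⟨c, hc⟩ := hp.scalar_all (α.symm y)
    exact ⟨c, by rw [hp', ← α.apply_symm_apply y, ← map_mul, ← map_mul, hc, map_smul]⟩
  have hp'idem : p' * p' = p' := by rw [hp', ← map_mul, hp.idem]
  obtain ⟨q, hq⟩ := exists_mul_ne hg hp'ne hp'z hp.ne hp.neg
  set u₀ := p' * q * p₀ with hu₀
  have hu₀r : u₀ * p₀ = u₀ := by rw [hu₀, mul_assoc, hp.idem]
  have hu₀l : p' * u₀ = u₀ := by rw [hu₀, ← mul_assoc, ← mul_assoc, hp'idem]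
  have hu₀z : u₀ * ι z = -u₀ := by rw [← hu₀r, mul_assoc, hpz, mul_neg]
  have hzp' : ι z * p' = -p' := by rw [(z_commute hg p').eq, hp'z]
  obtain ⟨r, hr⟩ := exists_mul_ne hg hq hu₀z hp'ne hzp'
  obtain ⟨k, hk⟩ := hp'sc (q * p₀ * r)
  have hk' : u₀ * r * p' = k • p' := by rw [← hk, hu₀]; simp only [mul_assoc]
  have hk0 : k ≠ 0 := by rintro rfl; exact hr (by rw [hk', zero_smul])
  set w₀ := k⁻¹ • (p₀ * r * p') with hw₀
  have huw : u₀ * w₀ = p' := by
    rw [hw₀, mul_smul_comm, ← mul_assoc, ← mul_assoc, hu₀r, hk', smul_smul, inv_mul_cancel₀ hk0,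
      one_smul]
  have hw₀r : w₀ * p' = w₀ := by rw [hw₀, smul_mul_assoc, mul_assoc, hp'idem]
  -- the semilinear map on the left ideal
  let W : Submodule ℂ ℂ[E] :=
    { carrier := {y | y * p₀ = y}
      zero_mem' := zero_mul _
      add_mem' := fun {a b} ha hb => by
        show (a + b) * p₀ = a + b
        rw [add_mul, ha, hb]
      smul_mem' := fun c a ha => by
        show (c • a) * p₀ = c • a
        rw [smul_mul_assoc, ha] }
  let U : Module.End ℂ W :=
    { toFun := fun y => ⟨α y * u₀, by show α y * u₀ * p₀ = _; rw [mul_assoc, hu₀r]⟩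
      map_add' := fun a b => Subtype.ext (by simp [add_mul])
      map_smul' := fun c a => Subtype.ext (by simp) }
  haveI : Nontrivial W := ⟨⟨⟨p₀, hp.idem⟩, 0, fun h => hp.ne (congrArg Subtype.val h)⟩⟩
  obtain ⟨μ, hμ⟩ := Module.End.exists_eigenvalue U
  obtain ⟨⟨w, hw⟩, hwv⟩ := hμ.exists_hasEigenvector
  have hwne : w ≠ 0 := fun h => hwv.2 (Subtype.ext h)
  have hαw : α w * u₀ = μ • w := congrArg Subtype.val hwv.apply_eq_smul
  have hwp : w * p₀ = w := hw
  have hαw' : α w = μ • (w * w₀) := by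
    have : α w * p' = α w := by rw [hp', ← map_mul, hwp]
    rw [← this, ← huw, ← mul_assoc, hαw, smul_mul_assoc]
  have hμ0 : μ ≠ 0 := by
    rintro rfl
    rw [zero_smul] at hαw'
    exact hwne ((map_eq_zero_iff α α.injective).mp hαw')
  have hwz : ι z * w = -w := by
    rw [(z_commute hg w).eq, ← hwp, mul_assoc, hpz, mul_neg]
  obtain ⟨y, hy⟩ := exists_mul_ne hg hp.ne hpz hwne hwz
  obtain ⟨j, hj⟩ := hp.scalar_all (y * w)
  have hj' : p₀ * y * w = j • p₀ := by
    rw [← hj, ← mul_assoc, mul_assoc (p₀ * y) w p₀, hwp]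
  have hj0 : j ≠ 0 := by rintro rfl; exact hy (by rw [hj', zero_smul])
  set P₁ := w * (j⁻¹ • (p₀ * y)) with hP₁
  have hiter : ∀ i : ℕ, ∃ m, (⇑α)^[i] P₁ = w * m ∧ (⇑α)^[i] P₁ * w = w := by
    intro i
    induction i with
    | zero =>
      refine ⟨_, rfl, ?_⟩
      rw [Function.iterate_zero_apply, hP₁, mul_assoc, smul_mul_assoc, hj', smul_smul,
        inv_mul_cancel₀ hj0, one_smul, hwp]
    | succ i ih =>
      obtain ⟨m, hm1, hm2⟩ := ih
      rw [Function.iterate_succ_apply']
      refine ⟨μ • (w₀ * α m), ?_, ?_⟩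
      · rw [hm1, map_mul, hαw']
        simp only [hw₀, smul_mul_assoc, mul_smul_comm, mul_assoc]
      · have h := congrArg (fun x => α x * u₀) hm2
        simp only [map_mul, mul_assoc, hαw] at h
        rw [mul_smul_comm] at h
        exact smul_right_injective _ hμ0 h
  choose m hm1 hm2 using hiter
  set M := (n : ℂ)⁻¹ • ∑ i ∈ Finset.range n, m i with hM
  set P := (n : ℂ)⁻¹ • ∑ i ∈ Finset.range n, (⇑α)^[i] P₁ with hP
  have hn' : (n : ℂ) ≠ 0 := Nat.cast_ne_zero.mpr hn.ne'
  have hPM : P = w * M := by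
    rw [hP, hM, mul_smul_comm, Finset.mul_sum]
    simp only [hm1]
  have hPw : P * w = w := by
    rw [hP, smul_mul_assoc, Finset.sum_mul]
    simp only [hm2, Finset.sum_const, Finset.card_range]
    rw [← Nat.cast_smul_eq_nsmul ℂ, smul_smul, inv_mul_cancel₀ hn', one_smul]
  refine ⟨P, ⟨?_, ?_, ?_, fun x => ?_⟩, ?_⟩
  · intro h
    exact hwne (by rw [← hPw, h, zero_mul])
  · nth_rw 2 [hPM]
    rw [← mul_assoc, hPw, hPM]
  · rw [hPM, ← mul_assoc, hwz, neg_mul]
  · obtain ⟨c, hc⟩ := hp.scalar_all (M * ι x * w)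
    refine ⟨c, ?_⟩
    calc P * ι x * P = w * (p₀ * (M * ι x * w) * p₀) * M := by
            rw [hPM]; nth_rw 1 [← hwp]; nth_rw 2 [← hwp]; simp only [mul_assoc]
      _ = c • P := by rw [hc, mul_smul_comm c w p₀, smul_mul_assoc c (w * p₀) M, hwp, hPM]
  · rw [hP, map_smul, map_sum]
    congr 1
    have h : ∀ i, α ((⇑α)^[i] P₁) = (⇑α)^[i + 1] P₁ := fun i =>
      (Function.iterate_succ_apply' _ _ _).symm
    simp only [h]
    have := Finset.sum_range_succ' (fun i => (⇑α)^[i] P₁) n
    rw [Finset.sum_range_succ, hαn, Function.iterate_zero_apply] at this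
    exact (add_right_cancel this).symm

end Cfsg.Agent.DadeTwo
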