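import Cfsg.Agent.Lib.Char.DadeTwo.Idem
import Mathlib.GroupTheory.QuotientGroup.Basic

/-!
# Constructions of rank one idempotents
-/

set_option autoImplicit false
set_option linter.unusedSectionVars false
set_option linter.style.haveILetI false
set_option linter.unusedSimpArgs false
set_option maxHeartbeats 800000

namespace Cfsg.Agent.DadeTwo

open scoped MonoidAlgebra

universe u v

variable {E : Type u} [Group E] [Finite E] {z : E}

theorem Rank1.map_alg {p : ℂ[E]} (hp : Rank1 z p) (hg : Good z) (a : MulAut E) :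
    Rank1 z (alg a p) := by
  refine ⟨fun h => hp.ne ((map_eq_zero_iff _ (alg a).injective).mp h), by rw [← map_mul, hp.idem],
    ?_, fun x => ?_⟩
  · have := congrArg (alg a) hp.neg
    rwa [map_mul, alg_of, aut_z hg, map_neg] at this
  · obtain ⟨c, hc⟩ := hp.scalar (a⁻¹ x)
    refine ⟨c, ?_⟩
    have := congrArg (alg a) hc
    rwa [map_mul, map_mul, alg_of, MulAut.apply_inv_self, map_smul] at this

/-! ### Linear characters of self-centralizing commutative subgroups -/

open Classical in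
/-- The idempotent of a linear character of a subgroup. -/
noncomputable def eLam (L : Subgroup E) (lam : L →* ℂ) : ℂ[E] :=
  haveI := Fintype.ofFinite L
  (Fintype.card L : ℂ)⁻¹ • ∑ l : L, lam l⁻¹ • MonoidAlgebra.of ℂ E l

theorem eLam_mul_of (L : Subgroup E) (lam : L →* ℂ) (m : L) :
    eLam L lam * MonoidAlgebra.of ℂ E m = lam m • eLam L lam := by
  classical
  letI := Fintype.ofFinite L
  unfold eLam
  rw [smul_mul_assoc, Finset.sum_mul, smul_smul (lam m), mul_comm (lam m), ← smul_smul, Finset.smul_sum (r := lam m)]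
  congr 1
  refine Fintype.sum_equiv (Equiv.mulRight m) _ _ fun l => ?_
  rw [Equiv.coe_mulRight, smul_mul_assoc, ← map_mul, smul_smul, ← map_mul]
  congr 2
  group

theorem of_mul_eLam (L : Subgroup E) (hcomm : ∀ x y : L, Commute x y) (lam : L →* ℂ) (m : L) :
    MonoidAlgebra.of ℂ E m * eLam L lam = lam m • eLam L lam := by
  rw [← eLam_mul_of]
  refine (Commute.symm ?_)
  unfold eLam
  refine Commute.smul_left (Commute.sum_left _ _ _ fun l _ => Commute.smul_left ?_ _) _
  exact (congrArg Subtype.val (hcomm l m).eq : (l : E) * m = m * l) |> fun h =>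
    show Commute _ _ from (show Commute (l : E) m from h).map (MonoidAlgebra.of ℂ E)

theorem eLam_idem (L : Subgroup E) (lam : L →* ℂ) : eLam L lam * eLam L lam = eLam L lam := by
  classical
  letI := Fintype.ofFinite L
  conv_lhs => enter [2]; unfold eLam
  rw [mul_smul_comm, Finset.mul_sum]
  simp only [mul_smul_comm, eLam_mul_of, smul_smul, ← map_mul, inv_mul_cancel, map_one, one_smul,
    Finset.sum_const, Finset.card_univ]
  rw [← Nat.cast_smul_eq_nsmul ℂ, smul_smul, inv_mul_cancel₀ (Nat.cast_ne_zero.mpr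
    Fintype.card_ne_zero), one_smul]

theorem eLam_coeff (L : Subgroup E) (lam : L →* ℂ) :
    (eLam L lam).coeff 1 = (Nat.card L : ℂ)⁻¹ := by
  classical
  letI := Fintype.ofFinite L
  unfold eLam
  rw [MonoidAlgebra.coeff_smul_apply, MonoidAlgebra.coeff_sum, Finsupp.finsetSum_apply,
    Finset.sum_eq_single (1 : L)]
  · simp [MonoidAlgebra.of_apply, MonoidAlgebra.one_def, Nat.card_eq_fintype_card]
  · intro l _ hl
    have : (l : E) ≠ 1 := fun h => hl (Subtype.ext h)
    simp [MonoidAlgebra.of_apply, Finsupp.single_apply, this]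
  · simp

theorem eLam_mid (hg : Good z) (L : Subgroup E) (hcomm : ∀ x y : L, Commute x y)
    (hz : z ∈ L) (lam : L →* ℂ) (hlz : lam ⟨z, hz⟩ = -1)
    (hmax : ∀ x, x ∉ L → ∃ l : L, ¬ Commute x (l : E)) {x : E} (hx : x ∉ L) :
    eLam L lam * MonoidAlgebra.of ℂ E x * eLam L lam = 0 := by
  set e := eLam L lam
  set ι := MonoidAlgebra.of ℂ E
  obtain ⟨l, hl⟩ := hmax x hx
  have hxl : x * l = l * x * z := (hg.comm x l).resolve_left hl
  have hlam : lam l ≠ 0 := fun h => by
    have := congrArg lam (mul_inv_cancel l)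
    rw [map_mul, h, zero_mul, map_one] at this
    exact zero_ne_one this
  have hze : ι z * e = -e := by
    have := of_mul_eLam L hcomm lam ⟨z, hz⟩
    rwa [hlz, neg_smul, one_smul] at this
  have h1 : e * ι (x * l) * e = lam l • (e * ι x * e) := by
    rw [map_mul, ← mul_assoc, mul_assoc _ (ι (l : E)), of_mul_eLam L hcomm lam l, mul_smul_comm]
  have h2 : e * ι (x * l) * e = -(lam l • (e * ι x * e)) := by
    rw [hxl, map_mul, map_mul, ← mul_assoc, ← mul_assoc, eLam_mul_of L lam l, smul_mul_assoc,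
      mul_assoc _ (ι z) e, hze, mul_neg, smul_mul_assoc]
  have h3 := h1.symm.trans h2
  rw [eq_neg_iff_add_eq_zero, ← two_smul ℂ, smul_smul, smul_eq_zero] at h3
  exact h3.resolve_left (by simp [hlam])

theorem eLam_rank1 (hg : Good z) (L : Subgroup E) (hcomm : ∀ x y : L, Commute x y)
    (hz : z ∈ L) (lam : L →* ℂ) (hlz : lam ⟨z, hz⟩ = -1)
    (hmax : ∀ x, x ∉ L → ∃ l : L, ¬ Commute x (l : E)) : Rank1 z (eLam L lam) := by
  refine ⟨fun h => ?_, eLam_idem L lam, ?_, fun x => ?_⟩
  · have := eLam_coeff L lam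
    rw [h] at this
    simp at this
    exact Nat.card_pos.ne' (Nat.cast_eq_zero.mp this.symm)
  · have := of_mul_eLam L hcomm lam ⟨z, hz⟩
    rwa [hlz, neg_smul, one_smul] at this
  · by_cases hx : x ∈ L
    · exact ⟨lam ⟨x, hx⟩, by rw [eLam_mul_of L lam ⟨x, hx⟩, smul_mul_assoc, eLam_idem]⟩
    · exact ⟨0, by rw [eLam_mid hg L hcomm hz lam hlz hmax hx, zero_smul]⟩

theorem alg_eLam (L : Subgroup E) (lam : L →* ℂ) (a : MulAut E) (hL : ∀ x, a x ∈ L ↔ x ∈ L)
    (hlam : ∀ l : L, lam ⟨a l, (hL l).mpr l.2⟩ = lam l) : alg a (eLam L lam) = eLam L lam := by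
  classical
  letI := Fintype.ofFinite L
  unfold eLam
  rw [map_smul, map_sum]
  congr 1
  refine Fintype.sum_equiv ((a.toEquiv).subtypeEquiv fun x => (hL x).symm) _ _ fun l => ?_
  rw [map_smul, alg_of]
  congr 1
  have h := hlam l⁻¹
  rw [← h]
  congr 1
  exact Subtype.ext (map_inv a (l : E))

/-! ### Products -/

/-- The inclusion of the group algebra of a subgroup. -/
noncomputable abbrev incl (D : Subgroup E) : ℂ[D] →ₐ[ℂ] ℂ[E] :=
  MonoidAlgebra.mapDomainAlgHom ℂ ℂ D.subtype

theorem incl_of (D : Subgroup E) (d : D) :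
    incl D (MonoidAlgebra.of ℂ D d) = MonoidAlgebra.of ℂ E d := by
  simp [MonoidAlgebra.of_apply, MonoidAlgebra.mapDomainAlgHom]

theorem incl_commute {D D' : Subgroup E} (h : ∀ d ∈ D, ∀ d' ∈ D', Commute d d') (a : ℂ[D])
    (b : ℂ[D']) : Commute (incl D a) (incl D' b) := by
  induction a using MonoidAlgebra.induction_on with
  | of d =>
    induction b using MonoidAlgebra.induction_on with
    | of d' => rw [incl_of, incl_of]; exact (h d d.2 d' d'.2).map _
    | add x y hx hy => rw [map_add]; exact hx.add_right hy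
    | smul r x hx => rw [map_smul]; exact hx.smul_right r
  | add x y hx hy => rw [map_add]; exact hx.add_left hy
  | smul r x hx => rw [map_smul]; exact hx.smul_left r

theorem coeff_incl_mul (hg : Good z) {D D' : Subgroup E} (hz : z ∈ D) (hz' : z ∈ D')
    (hinf : ∀ x ∈ D, x ∈ D' → InZ z x) (a : ℂ[D]) (b : ℂ[D']) :
    (incl D a * incl D' b).coeff 1 =
      a.coeff 1 * b.coeff 1 + a.coeff ⟨z, hz⟩ * b.coeff ⟨z, hz'⟩ := by
  classical
  induction a using MonoidAlgebra.induction_on with
  | of d =>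
    induction b using MonoidAlgebra.induction_on with
    | of d' =>
      rw [incl_of, incl_of, ← map_mul]
      simp only [MonoidAlgebra.of_apply, MonoidAlgebra.coeff_single, Finsupp.single_apply]
      by_cases h : (d : E) * d' = 1
      · have hd : (d : E) = (d' : E)⁻¹ := eq_inv_of_mul_eq_one_left h
        rw [if_pos h]
        rcases hinf d d.2 (hd ▸ inv_mem d'.2) with e | e
        · have e' : (d' : E) = 1 := by rwa [e, one_mul] at h
          simp [Subtype.ext_iff, e, e', hg.ne.symm]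
        · have e' : (d' : E) = z := by
            rw [e] at h
            rw [eq_inv_of_mul_eq_one_right h, inv_eq_of_mul_eq_one_right hg.sq]
          simp [Subtype.ext_iff, e, e', hg.ne]
      · rw [if_neg h]
        have h1 : ¬((d : E) = 1 ∧ (d' : E) = 1) := fun ⟨x, y⟩ => h (by rw [x, y, one_mul])
        have h2 : ¬((d : E) = z ∧ (d' : E) = z) := fun ⟨x, y⟩ => h (by rw [x, y, hg.sq])
        simp only [Subtype.ext_iff, OneMemClass.coe_one]
        split_ifs <;> simp_all
    | add x y hx hy => simp only [map_add, mul_add, MonoidAlgebra.coeff_add, Finsupp.add_apply, hx, hy]; ring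
    | smul r x hx =>
      simp only [map_smul, mul_smul_comm, MonoidAlgebra.coeff_smul_apply, smul_eq_mul, hx]; ring
  | add x y hx hy => simp only [map_add, add_mul, MonoidAlgebra.coeff_add, Finsupp.add_apply, hx, hy]; ring
  | smul r x hx =>
    simp only [map_smul, smul_mul_assoc, MonoidAlgebra.coeff_smul_apply, smul_eq_mul, hx]; ring

theorem incl_prod_rank1 (hg : Good z) {D D' : Subgroup E} (hz : z ∈ D) (hz' : z ∈ D')
    (hcom : ∀ d ∈ D, ∀ d' ∈ D', Commute d d') (hinf : ∀ x ∈ D, x ∈ D' → InZ z x)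
    (hgen : ∀ x : E, ∃ d ∈ D, ∃ d' ∈ D', x = d * d') (hgD : Good (⟨z, hz⟩ : D))
    (hgD' : Good (⟨z, hz'⟩ : D')) {p₁ : ℂ[D]} {p₂ : ℂ[D']} (h₁ : Rank1 (⟨z, hz⟩ : D) p₁)
    (h₂ : Rank1 (⟨z, hz'⟩ : D') p₂) : Rank1 z (incl D p₁ * incl D' p₂) := by
  have hc := incl_commute hcom
  refine ⟨fun h => ?_, ?_, ?_, fun x => ?_⟩
  · have h0 := congrArg (fun c : ℂ[E] => c.coeff 1) h
    rw [show (incl D p₁ * incl D' p₂).coeff 1 = _ from coeff_incl_mul hg hz hz' hinf p₁ p₂] at h0
    have s1 := coeff_shift hgD h₁.neg 1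
    have s2 := coeff_shift hgD' h₂.neg 1
    rw [one_mul] at s1 s2
    haveI := Fintype.ofFinite D
    haveI := Fintype.ofFinite D'
    have n1 := coeff_one_ne h₁.ne h₁.idem
    have n2 := coeff_one_ne h₂.ne h₂.idem
    simp only [MonoidAlgebra.coeff_zero, Finsupp.coe_zero, Pi.zero_apply] at h0
    rw [s1, s2] at h0
    exact mul_ne_zero n1 n2 (by linear_combination (1 / 2 : ℂ) * h0)
  · rw [(hc p₁ p₂).symm.mul_mul_mul_comm, ← map_mul, h₁.idem, ← map_mul, h₂.idem]
  · rw [← mul_assoc]
    have : MonoidAlgebra.of ℂ E z = incl D (MonoidAlgebra.of ℂ D ⟨z, hz⟩) := (incl_of D ⟨z, hz⟩).symm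
    rw [this, ← map_mul, h₁.neg, map_neg, neg_mul]
  · obtain ⟨d, hd, d', hd', rfl⟩ := hgen x
    obtain ⟨c₁, hc₁⟩ := h₁.scalar ⟨d, hd⟩
    obtain ⟨c₂, hc₂⟩ := h₂.scalar ⟨d', hd'⟩
    refine ⟨c₁ * c₂, ?_⟩
    rw [map_mul, show MonoidAlgebra.of ℂ E d = incl D (MonoidAlgebra.of ℂ D ⟨d, hd⟩) from
      (incl_of D ⟨d, hd⟩).symm, show MonoidAlgebra.of ℂ E d' = incl D' (MonoidAlgebra.of ℂ D' ⟨d', hd'⟩) from
      (incl_of D' ⟨d', hd'⟩).symm]
    rw [(hc (MonoidAlgebra.of ℂ D ⟨d, hd⟩) p₂).symm.mul_mul_mul_comm, ← map_mul, ← map_mul]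
    rw [(hc p₁ (p₂ * MonoidAlgebra.of ℂ D' ⟨d', hd'⟩)).symm.mul_mul_mul_comm, ← map_mul, ← map_mul,
      hc₁, hc₂, map_smul, map_smul, smul_mul_smul_comm]

theorem alg_incl (a : MulAut E) (D D' : Subgroup E) (φ : D ≃* D')
    (hφ : ∀ d : D, (φ d : E) = a d) (p : ℂ[D]) :
    alg a (incl D p) = incl D' (MonoidAlgebra.domCongr ℂ ℂ φ p) := by
  induction p using MonoidAlgebra.induction_on with
  | of d =>
    rw [incl_of, alg_of, MonoidAlgebra.of_apply, MonoidAlgebra.of_apply, MonoidAlgebra.domCongr_single]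
    rw [← MonoidAlgebra.of_apply, ← MonoidAlgebra.of_apply, incl_of, hφ]
  | add x y hx hy => simp only [map_add, hx, hy]
  | smul r x hx => simp only [map_smul, hx]

/-! ### Pullback along a quotient of a subgroup -/

variable {E' : Type v} [Group E'] [Finite E'] {z' : E'}

open Classical in
/-- The idempotent of the kernel. -/
noncomputable def eKer (C : Subgroup E) (f : C →* E') : ℂ[C] :=
  haveI := Fintype.ofFinite f.ker
  (Fintype.card f.ker : ℂ)⁻¹ • ∑ n : f.ker, MonoidAlgebra.of ℂ C n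

theorem eKer_absorb (C : Subgroup E) (f : C →* E') {n : C} (hn : n ∈ f.ker) :
    MonoidAlgebra.of ℂ C n * eKer C f = eKer C f := by
  classical
  letI := Fintype.ofFinite f.ker
  unfold eKer
  rw [mul_smul_comm, Finset.mul_sum]
  congr 1
  refine Fintype.sum_equiv (Equiv.mulLeft ⟨n, hn⟩) _ _ fun l => ?_
  simp [← map_mul]

theorem map_eKer (C : Subgroup E) (f : C →* E') :
    MonoidAlgebra.mapDomainAlgHom ℂ ℂ f (eKer C f) = 1 := by
  classical
  letI := Fintype.ofFinite f.ker
  unfold eKer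
  rw [map_smul, map_sum]
  have h : ∀ n : f.ker, MonoidAlgebra.mapDomainAlgHom ℂ ℂ f (MonoidAlgebra.of ℂ C n) = 1 := by
    intro n
    simp [MonoidAlgebra.of_apply, MonoidAlgebra.mapDomainAlgHom, MonoidAlgebra.one_def,
      MonoidHom.mem_ker.mp n.2]
  rw [Finset.sum_congr rfl fun n _ => h n, Finset.sum_const, Finset.card_univ,
    ← Nat.cast_smul_eq_nsmul ℂ, smul_smul]
  simp

/-- Anything killed by the quotient map is killed by the idempotent of the kernel. -/
theorem eKer_kill (C : Subgroup E) (f : C →* E') (hf : Function.Surjective f) {u : ℂ[C]}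
    (hu : MonoidAlgebra.mapDomainAlgHom ℂ ℂ f u = 0) : u * eKer C f = 0 := by
  have key : ∀ w : ℂ[C], w * eKer C f =
      (MonoidAlgebra.mapDomain (Function.surjInv hf)
        (MonoidAlgebra.mapDomainAlgHom ℂ ℂ f w)) * eKer C f := by
    intro w
    induction w using MonoidAlgebra.induction_on with
    | of d =>
      simp only [MonoidAlgebra.of_apply, MonoidAlgebra.mapDomainAlgHom, AlgHom.coe_mk,
        MonoidAlgebra.mapDomainRingHom_apply, MonoidAlgebra.mapDomain_single]
      have hn : (Function.surjInv hf (f d))⁻¹ * d ∈ f.ker := by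
        rw [MonoidHom.mem_ker, map_mul, map_inv, Function.surjInv_eq hf, inv_mul_cancel]
      have h := eKer_absorb C f hn
      rw [MonoidAlgebra.of_apply] at h
      conv_rhs => rw [← h, ← mul_assoc, MonoidAlgebra.single_mul_single, mul_inv_cancel_left, mul_one]
    | add x y hx hy => rw [add_mul, hx, hy, map_add, MonoidAlgebra.mapDomain_add, add_mul]
    | smul r x hx => rw [smul_mul_assoc, hx, map_smul, MonoidAlgebra.mapDomain_smul, smul_mul_assoc]
  rw [key, hu, MonoidAlgebra.mapDomain_zero, zero_mul]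

/-- The pullback of a rank one idempotent of a quotient of a centralizer. -/
theorem pullback (hg : Good z) (C : Subgroup E) (f : C →* E') (hf : Function.Surjective f)
    (hz : z ∈ C) (hfz : f ⟨z, hz⟩ = z') (hcent : ∀ n ∈ f.ker, ∀ x : C, Commute x n)
    (hout : ∀ x, x ∉ C → ∃ n ∈ f.ker, ¬ Commute x (n : E)) {p' : ℂ[E']} (hp' : Rank1 z' p') :
    ∃ p : ℂ[E], Rank1 z p ∧ ∀ (a : MulAut E) (a' : MulAut E') (hC : ∀ x, a x ∈ C ↔ x ∈ C),
      (∀ x : C, f ⟨a x, (hC x).mpr x.2⟩ = a' (f x)) → alg a' p' = p' → alg a p = p := by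
  classical
  have hsec : ∀ w : ℂ[E'], MonoidAlgebra.mapDomainAlgHom ℂ ℂ f
      (MonoidAlgebra.mapDomain (Function.surjInv hf) w) = w := fun w => by
    induction w using MonoidAlgebra.induction_on with
    | of d => simp [MonoidAlgebra.of_apply, MonoidAlgebra.mapDomainAlgHom, Function.surjInv_eq hf]
    | add x y hx hy => rw [MonoidAlgebra.mapDomain_add, map_add, hx, hy]
    | smul r x hx => rw [MonoidAlgebra.mapDomain_smul, map_smul, hx]
  obtain ⟨pt, hpt⟩ : ∃ pt, MonoidAlgebra.mapDomainAlgHom ℂ ℂ f pt = p' := ⟨_, hsec p'⟩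
  set e := eKer C f with he
  set φ := MonoidAlgebra.mapDomainAlgHom ℂ ℂ f with hφ
  have hφe : φ e = 1 := map_eKer C f
  have heq : ∀ {u w : ℂ[C]}, φ u = φ w → u * e = w * e := fun {u w} h => by
    rw [← sub_eq_zero, ← sub_mul]
    exact eKer_kill C f hf (by rw [map_sub, sub_eq_zero]; exact h)
  have hec : ∀ w : ℂ[C], Commute e w := by
    intro w
    refine commute_of_forall (fun g => ?_) w
    letI := Fintype.ofFinite f.ker
    rw [he]
    unfold eKer
    exact Commute.smul_left (Commute.sum_left _ _ _ fun (n : f.ker) _ =>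
      ((hcent n n.2 g).symm).map (MonoidAlgebra.of ℂ C)) _
  have hee : e * e = e := by
    conv_rhs => rw [← one_mul e]
    exact heq (by rw [hφe, map_one])
  set pc := pt * e with hpc
  have hφpc : φ pc = p' := by rw [hpc, map_mul, hφe, hpt, mul_one]
  have hpce : pc * e = pc := by rw [hpc, mul_assoc, hee]
  have hzc : MonoidAlgebra.of ℂ C ⟨z, hz⟩ * pc = -pc := by
    rw [hpc, ← mul_assoc, ← neg_mul]
    refine heq ?_
    rw [map_neg, map_mul, hpt]
    have : φ (MonoidAlgebra.of ℂ C ⟨z, hz⟩) = MonoidAlgebra.of ℂ E' z' := by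
      simp [hφ, MonoidAlgebra.of_apply, MonoidAlgebra.mapDomainAlgHom, hfz]
    rw [this, hp'.neg]
  refine ⟨incl C pc, ⟨fun h => ?_, ?_, ?_, fun x => ?_⟩, ?_⟩
  · have hinj : Function.Injective (incl C) :=
      MonoidAlgebra.mapDomain_injective C.subtype_injective
    have : pc = 0 := hinj (by rw [h, map_zero])
    exact hp'.ne (by rw [← hφpc, this, map_zero])
  · rw [← map_mul]
    congr 1
    rw [hpc, (hec pt).mul_mul_mul_comm, hee]
    exact heq (by rw [map_mul, hpt, hp'.idem])
  · rw [show MonoidAlgebra.of ℂ E z = incl C (MonoidAlgebra.of ℂ C ⟨z, hz⟩) from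
      (incl_of C ⟨z, hz⟩).symm, ← map_mul, hzc, map_neg]
  · by_cases hx : x ∈ C
    · obtain ⟨c, hc⟩ := hp'.scalar (f ⟨x, hx⟩)
      refine ⟨c, ?_⟩
      rw [show MonoidAlgebra.of ℂ E x = incl C (MonoidAlgebra.of ℂ C ⟨x, hx⟩) from
        (incl_of C ⟨x, hx⟩).symm, ← map_mul, ← map_mul, ← map_smul]
      congr 1
      rw [← hpce]
      nth_rw 2 [hpce]
      rw [show pc * e * MonoidAlgebra.of ℂ C ⟨x, hx⟩ * pc =
        (pc * MonoidAlgebra.of ℂ C ⟨x, hx⟩ * pc) * e by
          rw [hpce, mul_assoc _ pc e, hpce], ← smul_mul_assoc]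
      refine heq ?_
      rw [map_mul, map_mul, map_smul, hφpc, ← hc]
      simp [hφ, MonoidAlgebra.of_apply, MonoidAlgebra.mapDomainAlgHom]
    · refine ⟨0, ?_⟩
      obtain ⟨n, hn, hnc⟩ := hout x hx
      have hxn : x * n = n * x * z := (hg.comm x n).resolve_left hnc
      have hnl : MonoidAlgebra.of ℂ C n * pc = pc := by
        rw [hpc, ← (hec pt).eq, ← mul_assoc, eKer_absorb C f hn]
      have hnr : pc * MonoidAlgebra.of ℂ C n = pc := by
        rw [hpc, mul_assoc, (hec _).eq, eKer_absorb C f hn]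
      set P := incl C pc
      set ι := MonoidAlgebra.of ℂ E
      have l1 : ι (n : E) * P = P := by rw [← incl_of C n, ← map_mul, hnl]
      have r1 : P * ι (n : E) = P := by rw [← incl_of C n, ← map_mul, hnr]
      have zl : ι z * P = -P := by
        rw [show ι z = incl C (MonoidAlgebra.of ℂ C ⟨z, hz⟩) from (incl_of C ⟨z, hz⟩).symm,
          ← map_mul, hzc, map_neg]
      have h1 : P * ι (x * n) * P = P * ι x * P := by
        rw [map_mul, ← mul_assoc, mul_assoc _ (ι (n : E)), l1]
      have h2 : P * ι (x * n) * P = -(P * ι x * P) := by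
        rw [hxn, map_mul, map_mul, ← mul_assoc, ← mul_assoc, r1, mul_assoc _ (ι z) P, zl, mul_neg]
      have h3 := h1.symm.trans h2
      rw [eq_neg_iff_add_eq_zero, ← two_smul ℂ, smul_eq_zero] at h3
      rw [zero_smul]
      exact h3.resolve_left two_ne_zero
  · intro a a' hC hcompat ha'
    let φC : C ≃* C :=
      { (a.toEquiv).subtypeEquiv fun x => (hC x).symm with
        map_mul' := fun x y => Subtype.ext (map_mul a (x : E) (y : E)) }
    rw [alg_incl a C C φC fun d => rfl]
    congr 1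
    set A := MonoidAlgebra.domCongr ℂ ℂ φC
    have hφA : ∀ w : ℂ[C], φ (A w) = alg a' (φ w) := by
      intro w
      induction w using MonoidAlgebra.induction_on with
      | of d =>
        simp only [A, hφ, MonoidAlgebra.of_apply, MonoidAlgebra.mapDomainAlgHom, AlgHom.coe_mk,
          MonoidAlgebra.mapDomainRingHom_apply, MonoidAlgebra.mapDomain_single,
          MonoidAlgebra.domCongr_single]
        exact congrArg (fun g => MonoidAlgebra.single g (1 : ℂ)) (hcompat d)
      | add x y hx hy => simp only [map_add, hx, hy]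
      | smul r x hx => simp only [map_smul, hx]
    have hAe : A e = e := by
      letI := Fintype.ofFinite f.ker
      rw [he]
      unfold eKer
      rw [map_smul, map_sum]
      congr 1
      have hk : ∀ y : C, y ∈ f.ker ↔ φC y ∈ f.ker := by
        intro y
        rw [MonoidHom.mem_ker, MonoidHom.mem_ker, show f (φC y) = a' (f y) from hcompat y,
          a'.map_eq_one_iff]
      refine Fintype.sum_equiv (φC.toEquiv.subtypeEquiv hk) _ _ fun n => ?_
      simp [A, MonoidAlgebra.of_apply]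
    have h := heq (u := A pt) (w := pt) (by rw [hφA, hpt, ha'])
    rw [hpc, map_mul, hAe, h]

end Cfsg.Agent.DadeTwo
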