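import Cfsg.Agent.Lib.Char.DadeTwo.Pair
import Cfsg.Agent.Lib.Char.DadeTwo.Commutant
import Cfsg.Agent.Lib.Transfer.PGroup

/-!
# The irreducible case with several homogeneous components
-/

set_option autoImplicit false
set_option linter.unusedSectionVars false
set_option linter.style.haveILetI false
set_option linter.unusedSimpArgs false
set_option maxHeartbeats 800000

namespace Cfsg.Agent.DadeTwo

open scoped MonoidAlgebra

universe u

variable {E : Type u} [Group E] [Finite E] {z : E}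

theorem aV_inv_mul (hg : Good z) (a : MulAut E) : aV hg a⁻¹ * aV hg a = 1 := by
  rw [← aV_mul, inv_mul_cancel, aV_one]

theorem aV_mul_inv (hg : Good z) (a : MulAut E) : aV hg a * aV hg a⁻¹ = 1 := by
  rw [← aV_mul, mul_inv_cancel, aV_one]

/-- The conjugate of an operator. -/
noncomputable def cv (hg : Good z) (a : MulAut E) (T : Module.End (ZMod 2) (Vsp hg)) :
    Module.End (ZMod 2) (Vsp hg) :=
  aV hg a * T * aV hg a⁻¹

variable (hg : Good z) {K S : Subgroup (MulAut E)}

/-- A subspace invariant under `K` and `S`. -/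
def Inv (K S : Subgroup (MulAut E)) (W : Submodule (ZMod 2) (Vsp hg)) : Prop :=
  (∀ a ∈ K, ∀ v ∈ W, aV hg a v ∈ W) ∧ ∀ a ∈ S, ∀ v ∈ W, aV hg a v ∈ W

/-- There are no invariant subspaces. -/
def Irred (K S : Subgroup (MulAut E)) : Prop :=
  ∀ W : Submodule (ZMod 2) (Vsp hg), Inv hg K S W → W = ⊥ ∨ W = ⊤

/-- The fixed space of an operator. -/
def fixW (T : Module.End (ZMod 2) (Vsp hg)) : Submodule (ZMod 2) (Vsp hg) :=
  LinearMap.eqLocus T 1

include hg

theorem mem_fixW {T : Module.End (ZMod 2) (Vsp hg)} {v : Vsp hg} : v ∈ fixW hg T ↔ T v = v :=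
  Iff.rfl

theorem aV_fixW {T : Module.End (ZMod 2) (Vsp hg)} {a : MulAut E} (h : Commute T (aV hg a))
    {v : Vsp hg} (hv : v ∈ fixW hg T) : aV hg a v ∈ fixW hg T := by
  rw [mem_fixW] at *
  have := LinearMap.congr_fun h.eq v
  rw [Module.End.mul_apply, Module.End.mul_apply, hv] at this
  exact this

theorem Dof_invariant (W : Submodule (ZMod 2) (Vsp hg)) {a : MulAut E}
    (h : ∀ v ∈ W, aV hg a v ∈ W) (h' : ∀ v ∈ W, aV hg a⁻¹ v ∈ W) (x : E) :
    a x ∈ Dof hg W ↔ x ∈ Dof hg W := by
  simp only [mem_Dof, ← aV_q]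
  refine ⟨fun hx => ?_, h _⟩
  have := h' _ hx
  rwa [← Module.End.mul_apply, aV_inv_mul, Module.End.one_apply] at this

theorem Dof_ne_top {W : Submodule (ZMod 2) (Vsp hg)} (hW : W ≠ ⊤) : Dof hg W ≠ ⊤ := by
  refine fun h => hW (eq_top_iff.mpr fun v _ => ?_)
  obtain ⟨x, rfl⟩ := q_surjective hg v
  exact (mem_Dof hg).mp (h ▸ Subgroup.mem_top x)

theorem exists_Dof_not_inZ {W : Submodule (ZMod 2) (Vsp hg)} (hW : W ≠ ⊥) :
    ∃ x ∈ Dof hg W, ¬ InZ z x := by
  obtain ⟨v, hv, hv0⟩ := Submodule.exists_mem_ne_zero_of_ne_bot hW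
  obtain ⟨x, rfl⟩ := q_surjective hg v
  exact ⟨x, hv, fun h => hv0 ((q_eq_zero_iff hg).mpr h)⟩

theorem z_mem_Dof (W : Submodule (ZMod 2) (Vsp hg)) : z ∈ Dof hg W := by
  rw [mem_Dof, (q_eq_zero_iff hg).mpr (Or.inr rfl)]; exact W.zero_mem

theorem fixed_idem (hirr : Irred hg K S) {T : Module.End (ZMod 2) (Vsp hg)} (hT : T * T = T)
    (hK : ∀ a ∈ K, Commute T (aV hg a)) (hS : ∀ a ∈ S, Commute T (aV hg a)) : T = 0 ∨ T = 1 := by
  rcases hirr (fixW hg T) ⟨fun a ha v hv => aV_fixW hg (hK a ha) hv,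
    fun a ha v hv => aV_fixW hg (hS a ha) hv⟩ with h | h
  · refine Or.inl (LinearMap.ext fun v => ?_)
    have hv : T v ∈ fixW hg T := (mem_fixW hg).mpr (LinearMap.congr_fun hT v)
    rw [h] at hv
    exact (Submodule.mem_bot _).mp hv
  · refine Or.inr (LinearMap.ext fun v => ?_)
    exact (mem_fixW hg).mp (h ▸ Submodule.mem_top (x := v))

/-- Under irreducibility the image of the centre is reduced. -/
theorem nilpotent_eq_zero [Nontrivial (Vsp hg)] (hn : ∀ s ∈ S, ∀ k ∈ K, s * k * s⁻¹ ∈ K)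
    (hirr : Irred hg K S) {T : Module.End (ZMod 2) (Vsp hg)} (hT : T ∈ Aalg hg K)
    (hnil : IsNilpotent T) : T = 0 := by
  classical
  haveI : Finite (Module.End (ZMod 2) (Vsp hg)) :=
    Finite.of_injective (fun T => (T : Vsp hg → Vsp hg)) DFunLike.coe_injective
  set Nil := {U : Module.End (ZMod 2) (Vsp hg) | U ∈ Aalg hg K ∧ IsNilpotent U}
  let W : Submodule (ZMod 2) (Vsp hg) :=
    { carrier := {v | ∀ U ∈ Nil, U v = 0}
      zero_mem' := fun U _ => map_zero U
      add_mem' := fun {a b} ha hb U hU => by rw [map_add, ha U hU, hb U hU, add_zero]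
      smul_mem' := fun c {a} ha U hU => by rw [map_smul, ha U hU, smul_zero] }
  have key : ∀ F : Finset (Module.End (ZMod 2) (Vsp hg)), (∀ U ∈ F, U ∈ Nil) →
      ∃ v ≠ 0, ∀ U ∈ F, U v = 0 := by
    intro F
    induction F using Finset.induction_on with
    | empty => exact fun _ => ⟨_, (exists_ne (0 : Vsp hg)).choose_spec, by simp⟩
    | insert U F _ ih =>
      intro hF
      obtain ⟨v, hv0, hv⟩ := ih fun U' h' => hF U' (Finset.mem_insert_of_mem h')
      obtain ⟨hUA, n, hn⟩ := hF U (Finset.mem_insert_self U F)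
      have hex : ∃ m, (U ^ m) v = 0 := ⟨n, by rw [hn]; rfl⟩
      obtain ⟨m, hm⟩ : ∃ m, Nat.find hex = m + 1 := by
        refine Nat.exists_eq_succ_of_ne_zero fun h => hv0 ?_
        have := Nat.find_spec hex
        rw [h, pow_zero] at this
        exact this
      refine ⟨(U ^ m) v, Nat.find_min hex (by omega), fun U' h' => ?_⟩
      rcases Finset.mem_insert.mp h' with rfl | h'
      · have := Nat.find_spec hex
        rw [hm, pow_succ'] at this
        exact this
      · have hc : Commute U' (U ^ m) :=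
          (Aalg_comm (hF U' (Finset.mem_insert_of_mem h')).1 hUA).pow_right m
        have := LinearMap.congr_fun hc.eq v
        rw [Module.End.mul_apply, Module.End.mul_apply, hv U' h', map_zero] at this
        exact this
  obtain ⟨v, hv0, hv⟩ := key (Set.toFinite Nil).toFinset fun U h => (Set.toFinite Nil).mem_toFinset.mp h
  have hvW : v ∈ W := fun U hU => hv U ((Set.toFinite Nil).mem_toFinset.mpr hU)
  have hW : W ≠ ⊥ := fun h => hv0 ((Submodule.mem_bot _).mp (h ▸ hvW))
  have htop : W = ⊤ := (hirr W ⟨fun a ha w hw U hU => by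
      have := LinearMap.congr_fun (Aalg_commute_K hU.1 ha).eq w
      rw [Module.End.mul_apply, Module.End.mul_apply, hw U hU, map_zero] at this
      exact this,
    fun a ha w hw U hU => by
      have hU' : cv hg a⁻¹ U ∈ Nil := by
        refine ⟨conj_mem_Aalg (norm_iff hn (S.inv_mem ha)) hU.1, ?_⟩
        obtain ⟨n, hn⟩ := hU.2
        refine ⟨n, ?_⟩
        have : ∀ m, cv hg a⁻¹ U ^ m = cv hg a⁻¹ (U ^ m) := by
          intro m
          induction m with
          | zero => simp only [pow_zero, cv, conj_one]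
          | succ m ih => rw [pow_succ, pow_succ, ih, cv, cv, cv, conj_mul]
        rw [this, hn, cv, mul_zero, zero_mul]
      have := hw _ hU'
      rw [cv, inv_inv, Module.End.mul_apply, Module.End.mul_apply] at this
      have h2 := congrArg (aV hg a) this
      rwa [← Module.End.mul_apply, aV_mul_inv, Module.End.one_apply, map_zero] at h2⟩).resolve_left hW
  exact LinearMap.ext fun w => (htop ▸ Submodule.mem_top : w ∈ W) T ⟨hT, hnil⟩

/-- Either there is a nontrivial idempotent or the image of the centre is a field. -/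
theorem idem_or_unit [Nontrivial (Vsp hg)] (hn : ∀ s ∈ S, ∀ k ∈ K, s * k * s⁻¹ ∈ K)
    (hirr : Irred hg K S) :
    (∃ e ∈ Aalg hg K, e * e = e ∧ e ≠ 0 ∧ e ≠ 1) ∨
      ∀ T ∈ Aalg hg K, T ≠ 0 → ∃ U ∈ Aalg hg K, U * T = 1 := by
  haveI : Finite (Module.End (ZMod 2) (Vsp hg)) :=
    Finite.of_injective (fun T => (T : Vsp hg → Vsp hg)) DFunLike.coe_injective
  by_contra hcon
  push Not at hcon
  obtain ⟨h1, T, hT, hT0, h2⟩ := hcon
  obtain ⟨n, hn0, hidem⟩ := exists_pow_idem T
  have hne : T ^ n ≠ 0 := fun h => hT0 (nilpotent_eq_zero hg hn hirr hT ⟨n, h⟩)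
  have hone := h1 _ ((Aalg hg K).pow_mem hT n) hidem hne
  exact h2 (T ^ (n - 1)) ((Aalg hg K).pow_mem hT _) (by rw [← pow_succ, Nat.sub_add_cancel hn0, hone])

/-- The case of a nontrivial idempotent. -/
theorem solve_idem (ih : Below.{u} (Nat.card E)) (hK : Odd (Nat.card K)) (hS : IsPGroup 2 S)
    (hn : ∀ s ∈ S, ∀ k ∈ K, s * k * s⁻¹ ∈ K) (hfpf : Fpf z K) (hirr : Irred hg K S)
    (hex : ∃ e ∈ Aalg hg K, e * e = e ∧ e ≠ 0 ∧ e ≠ 1) :
    ∃ p, Rank1 z p ∧ ∀ s ∈ S, alg s p = p := by
  classical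
  haveI : Finite (Module.End (ZMod 2) (Vsp hg)) :=
    Finite.of_injective (fun T => (T : Vsp hg → Vsp hg)) DFunLike.coe_injective
  obtain ⟨e, ⟨heA, hee, he0, he1⟩, hmin⟩ :=
    (Set.toFinite {e | e ∈ Aalg hg K ∧ e * e = e ∧ e ≠ 0 ∧ e ≠ 1}).exists_minimalFor
      (fun e => Nat.card (fixW hg e)) _ hex
  have hatom : ∀ g ∈ Aalg hg K, g * g = g → e * g = 0 ∨ e * g = e := by
    intro g hgA hgg
    by_contra hcon
    push Not at hcon
    have hc := Aalg_comm heA hgA
    have hidem : e * g * (e * g) = e * g := by rw [hc.symm.mul_mul_mul_comm, hee, hgg]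
    have hne1 : e * g ≠ 1 := fun h => he1 (by rw [← mul_one e, ← h, ← mul_assoc, hee])
    have hle : fixW hg (e * g) ≤ fixW hg e := fun v hv => by
      rw [mem_fixW] at *
      nth_rw 1 [← hv]
      rw [← Module.End.mul_apply, ← mul_assoc, hee, hv]
    have hcard := hmin ⟨(Aalg hg K).mul_mem heA hgA, hidem, hcon.1, hne1⟩ (Nat.card_mono (Set.toFinite _) hle)
    have heq : fixW hg (e * g) = fixW hg e :=
      SetLike.coe_injective (Set.eq_of_subset_of_ncard_le hle (by
        simpa only [← Nat.card_coe_set_eq, SetLike.coe_sort_coe] using hcard) (Set.toFinite _))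
    apply hcon.2
    refine LinearMap.ext fun v => ?_
    have hv : e v ∈ fixW hg (e * g) := heq.symm ▸ (LinearMap.congr_fun hee v : e (e v) = e v)
    rw [mem_fixW, ← Module.End.mul_apply, mul_assoc, hc.symm.eq, ← mul_assoc, hee] at hv
    exact hv
  have hcA : ∀ a ∈ S, ∀ T ∈ Aalg hg K, cv hg a T ∈ Aalg hg K := fun a ha T hT =>
    conj_mem_Aalg (norm_iff hn ha) hT
  have hcm : ∀ (a : MulAut E) (T U : Module.End (ZMod 2) (Vsp hg)), cv hg a T * cv hg a U = cv hg a (T * U) :=
    conj_mul
  have hcc : ∀ (a b : MulAut E) (T : Module.End (ZMod 2) (Vsp hg)), cv hg a (cv hg b T) = cv hg (a * b) T :=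
    conj_conj
  have hci : ∀ (a : MulAut E) (T : Module.End (ZMod 2) (Vsp hg)), cv hg a⁻¹ (cv hg a T) = T := fun a T => by
    rw [hcc, inv_mul_cancel, cv, inv_one, aV_one, one_mul, mul_one]
  have hcsub : ∀ (a : MulAut E) (T U : Module.End (ZMod 2) (Vsp hg)), cv hg a (T - U) = cv hg a T - cv hg a U :=
    fun a T U => by simp only [cv, mul_sub, sub_mul]
  -- the stabilizer and a maximal subgroup containing it
  let St : Subgroup S :=
    { carrier := {a | cv hg (a : MulAut E) e = e}
      one_mem' := by show cv hg 1 e = e; rw [cv, inv_one, aV_one, one_mul, mul_one]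
      mul_mem' := fun {a b} ha hb => by
        show cv hg ((a : MulAut E) * b) e = e
        rw [← hcc, hb, ha]
      inv_mem' := fun {a} ha => by
        show cv hg (a : MulAut E)⁻¹ e = e
        nth_rw 1 [← (ha : cv hg (a : MulAut E) e = e)]
        rw [hci] }
  have hSt : St ≠ ⊤ := by
    intro h
    refine (fixed_idem hg hirr hee (fun a ha => Aalg_commute_K heA ha) fun a ha => ?_).elim he0 he1
    exact (conj_eq_iff a e).mp (h ▸ Subgroup.mem_top (⟨a, ha⟩ : S) : (⟨a, ha⟩ : S) ∈ St)
  haveI : Finite (Subgroup S) :=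
    Finite.of_injective (fun H : Subgroup S => (H : Set S)) SetLike.coe_injective
  obtain ⟨M, hM, hStM⟩ := (eq_top_or_exists_le_coatom St).resolve_left hSt
  obtain ⟨hMn, hMi⟩ := PGroupBasics.index_of_isCoatom hS hM
  obtain ⟨s, hs⟩ : ∃ s : S, s ∉ M := by
    by_contra h
    push Not at h
    exact hM.1 (eq_top_iff.mpr fun x _ => h x)
  set H := M.map S.subtype
  have hHS : H ≤ S := Subgroup.map_subtype_le M
  have hmem : ∀ a : S, (a : MulAut E) ∈ H ↔ a ∈ M := fun a =>
    Subgroup.mem_map_iff_mem S.subtype_injective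
  have hidx : ∀ a ∈ S, a ∈ H ∨ (s : MulAut E)⁻¹ * a ∈ H := by
    intro a ha
    by_cases h : (⟨a, ha⟩ : S) ∈ M
    · exact Or.inl ((hmem ⟨a, ha⟩).mpr h)
    · refine Or.inr ((hmem (s⁻¹ * ⟨a, ha⟩)).mpr ?_)
      rw [Subgroup.mul_mem_iff_of_index_two hMi, M.inv_mem_iff]
      exact iff_of_false hs h
  have hHn : ∀ a ∈ H, (s : MulAut E)⁻¹ * a * s ∈ H := by
    intro a ha
    refine (hmem (s⁻¹ * ⟨a, hHS ha⟩ * s)).mpr ?_
    simpa using hMn.conj_mem _ ((hmem ⟨a, hHS ha⟩).mp ha) s⁻¹
  have hs2 : (s : MulAut E) * s ∈ H := by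
    refine (hmem (s * s)).mpr ?_
    rw [Subgroup.mul_mem_iff_of_index_two hMi]
  -- the idempotent of the orbit under `H`
  set l : List (Module.End (ZMod 2) (Vsp hg)) := (kl H).map fun a => cv hg a e
  have hlA : ∀ x ∈ l, x ∈ Aalg hg K ∧ x * x = x := by
    intro x hx
    obtain ⟨a, ha, rfl⟩ := List.mem_map.mp hx
    exact ⟨hcA a (hHS (mem_kl.mp ha)) e heA, by rw [hcm, hee]⟩
  set Q : List (Module.End (ZMod 2) (Vsp hg)) → Module.End (ZMod 2) (Vsp hg) := fun m =>
    (m.map fun x => 1 - x).prod with hQ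
  set P := Q l with hP
  have h1A : ∀ x ∈ l, 1 - x ∈ Aalg hg K := fun x hx =>
    (Aalg hg K).sub_mem (Aalg hg K).one_mem (hlA x hx).1
  have hQA : ∀ m : List (Module.End (ZMod 2) (Vsp hg)), (∀ x ∈ m, x ∈ l) → Q m ∈ Aalg hg K := fun m hm => by
    refine (Aalg hg K).list_prod_mem fun y hy => ?_
    obtain ⟨x, hx, rfl⟩ := List.mem_map.mp hy
    exact h1A x (hm x hx)
  have hPA : P ∈ Aalg hg K := hQA l fun x hx => hx
  have hPP : P * P = P := by
    have : ∀ m : List (Module.End (ZMod 2) (Vsp hg)), (∀ x ∈ m, x ∈ l) → Q m * Q m = Q m := by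
      intro m
      induction m with
      | nil => intro _; simp [hQ]
      | cons x m ihm =>
        intro hm
        have hx := hlA x (hm x List.mem_cons_self)
        have hc : Commute (1 - x) (Q m) := Aalg_comm (h1A x (hm x List.mem_cons_self))
          (hQA m fun y hy => hm y (List.mem_cons_of_mem _ hy))
        show (1 - x) * Q m * ((1 - x) * Q m) = (1 - x) * Q m
        rw [hc.symm.mul_mul_mul_comm, ihm fun y hy => hm y (List.mem_cons_of_mem _ hy)]
        congr 1
        rw [sub_mul, one_mul, mul_sub, mul_one, hx.2, sub_self, sub_zero]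
    exact this l fun x hx => hx
  have hPcv : ∀ a ∈ H, cv hg a P = P := by
    intro a ha
    have hdist : ∀ m : List (Module.End (ZMod 2) (Vsp hg)), cv hg a (Q m) = Q (m.map (cv hg a)) := by
      intro m
      induction m with
      | nil => simp [hQ, cv, aV_mul_inv]
      | cons x m ihm =>
        show cv hg a ((1 - x) * Q m) = (1 - cv hg a x) * Q (m.map (cv hg a))
        rw [← ihm, ← hcm, hcsub]
        simp [cv, aV_mul_inv]
    rw [hP, hdist]
    have hperm : (l.map (cv hg a)).Perm l := by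
      have := (kl_perm (K := H) (fun b => a * b) (mul_right_injective a)
        (fun b => H.mul_mem_cancel_left ha)).map fun b => cv hg b e
      simpa [l, List.map_map, Function.comp_def, hcc] using this
    refine (hperm.map _).prod_eq' ?_
    refine List.pairwise_of_forall_mem_list fun x hx y hy => ?_
    obtain ⟨x', hx', rfl⟩ := List.mem_map.mp hx
    obtain ⟨y', hy', rfl⟩ := List.mem_map.mp hy
    exact Aalg_comm (h1A x' (hperm.mem_iff.mp hx')) (h1A y' (hperm.mem_iff.mp hy'))
  have heP : e * P = 0 := by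
    have hel : e ∈ l := List.mem_map.mpr ⟨1, mem_kl.mpr H.one_mem, by simp [cv, aV_one]⟩
    have : ∀ m : List (Module.End (ZMod 2) (Vsp hg)), (∀ x ∈ m, x ∈ l) → e ∈ m → e * Q m = 0 := by
      intro m
      induction m with
      | nil => intro _ h; exact absurd h (List.not_mem_nil)
      | cons x m ihm =>
        intro hm h
        show e * ((1 - x) * Q m) = 0
        rcases List.mem_cons.mp h with rfl | h
        · rw [← mul_assoc, mul_sub, mul_one, hee, sub_self, zero_mul]
        · rw [← mul_assoc, (Aalg_comm heA (h1A x (hm x List.mem_cons_self))).eq, mul_assoc,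
            ihm (fun y hy => hm y (List.mem_cons_of_mem _ hy)) h, mul_zero]
    exact this l (fun x hx => hx) hel
  set f := 1 - P with hf
  have hfA : f ∈ Aalg hg K := (Aalg hg K).sub_mem (Aalg hg K).one_mem hPA
  have hff : f * f = f := by rw [hf, sub_mul, one_mul, mul_sub, mul_one, hPP, sub_self, sub_zero]
  have hef : e * f = e := by rw [hf, mul_sub, mul_one, heP, sub_zero]
  have hf0 : f ≠ 0 := fun h => he0 (by rw [← hef, h, mul_zero])
  have hfH : ∀ a ∈ H, cv hg a f = f := fun a ha => by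
    rw [hf, hcsub, hPcv a ha]; simp [cv, aV_mul_inv]
  set g := cv hg (s : MulAut E) e
  have hgA : g ∈ Aalg hg K := hcA _ s.2 e heA
  have hgl : ∀ x ∈ l, g * x = 0 := by
    intro x hx
    obtain ⟨a, ha, rfl⟩ := List.mem_map.mp hx
    have haH := mem_kl.mp ha
    by_contra hne
    have hc := Aalg_comm hgA (hcA a (hHS haH) e heA)
    -- both products reduce to the atom
    have h1 : e * cv hg ((s : MulAut E)⁻¹ * a) e = e := by
      refine (hatom _ (hcA _ (S.mul_mem (S.inv_mem s.2) (hHS haH)) e heA) (by rw [hcm, hee])).resolve_left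
        fun h => hne ?_
      rw [← hcc] at h
      have := congrArg (cv hg (s : MulAut E)) h
      rw [← hcm, hcc, mul_inv_cancel] at this
      simpa [cv, aV_one, g] using this
    have h2 : e * cv hg (a⁻¹ * s) e = e := by
      refine (hatom _ (hcA _ (S.mul_mem (S.inv_mem (hHS haH)) s.2) e heA) (by rw [hcm, hee])).resolve_left
        fun h => hne ?_
      rw [← hcc] at h
      have := congrArg (cv hg a) h
      rw [← hcm, hcc, mul_inv_cancel] at this
      rw [hc.eq]
      simpa [cv, aV_one, g] using this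
    have hfix : cv hg (a⁻¹ * s) e = e := by
      have h3 := congrArg (cv hg (a⁻¹ * s)) h1
      rw [← hcm, hcc, show a⁻¹ * (s : MulAut E) * ((s : MulAut E)⁻¹ * a) = 1 by group] at h3
      have h4 : cv hg (1 : MulAut E) e = e := by simp [cv, aV_one]
      rw [h4] at h3
      have hc' := Aalg_comm heA (hcA _ (S.mul_mem (S.inv_mem (hHS haH)) s.2) e heA)
      rw [← h3, ← hc'.eq, h2]
    have hst : (⟨a, hHS haH⟩ : S)⁻¹ * s ∈ St := hfix
    have := M.mul_mem ((hmem ⟨a, hHS haH⟩).mp haH) (hStM hst)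
    rw [mul_inv_cancel_left] at this
    exact hs this
  have hgf : g * f = 0 := by
    have : ∀ m : List (Module.End (ZMod 2) (Vsp hg)), (∀ x ∈ m, x ∈ l) → g * Q m = g := by
      intro m
      induction m with
      | nil => intro _; simp [hQ]
      | cons x m ihm =>
        intro hm
        show g * ((1 - x) * Q m) = g
        rw [← mul_assoc, mul_sub, mul_one, hgl x (hm x List.mem_cons_self), sub_zero,
          ihm fun y hy => hm y (List.mem_cons_of_mem _ hy)]
    rw [hf, mul_sub, mul_one, hP, this l fun x hx => hx, sub_self]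
  have hf1 : f ≠ 1 := by
    intro h
    rw [h, mul_one] at hgf
    refine he0 ?_
    rw [← hci (s : MulAut E) e]
    show cv hg (s : MulAut E)⁻¹ g = 0
    rw [hgf, cv, mul_zero, zero_mul]
  -- `f` and its conjugate by `s`
  have halves : ∀ f : Module.End (ZMod 2) (Vsp hg), f ∈ Aalg hg K → f * f = f → f ≠ 0 → f ≠ 1 →
      (∀ a ∈ H, cv hg a f = f) → f * cv hg (s : MulAut E) f = 0 ∧ f + cv hg (s : MulAut E) f = 1 := by
    intro f hfA hff hf0 hf1 hfH
    set f' := cv hg (s : MulAut E) f with hf'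
    have hf'A : f' ∈ Aalg hg K := hcA _ s.2 f hfA
    have hc := Aalg_comm hfA hf'A
    have hss : cv hg (s : MulAut E) f' = f := by rw [hf', hcc, hfH _ hs2]
    have hswap : ∀ a ∈ H, cv hg a f' = f' := fun a ha => by
      rw [hf', hcc, show a * (s : MulAut E) = s * ((s : MulAut E)⁻¹ * a * s) by group, ← hcc,
        hfH _ (hHn a ha)]
    have hfix : ∀ U : Module.End (ZMod 2) (Vsp hg), U ∈ Aalg hg K → U * U = U →
        (∀ a ∈ H, cv hg a U = U) → cv hg (s : MulAut E) U = U → U = 0 ∨ U = 1 := by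
      intro U hUA hUU hUH hUs
      refine fixed_idem hg hirr hUU (fun a ha => Aalg_commute_K hUA ha) fun a ha =>
        (conj_eq_iff a U).mp ?_
      rcases hidx a ha with h | h
      · exact hUH a h
      · show cv hg a U = U
        rw [show a = (s : MulAut E) * ((s : MulAut E)⁻¹ * a) by group, ← hcc, hUH _ h, hUs]
    have h0 : f * f' = 0 := by
      refine (hfix _ ((Aalg hg K).mul_mem hfA hf'A) (by
        rw [hc.symm.mul_mul_mul_comm, hff, show f' * f' = f' by rw [hf', hcm, hff]])
        (fun a ha => by rw [← hcm, hfH a ha, hswap a ha]) (by rw [← hcm, hss, ← hf', hc.eq])).resolve_right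
        fun h => hf1 ?_
      calc f = f * (f * f') := by rw [h, mul_one]
        _ = f * f' := by rw [← mul_assoc, hff]
        _ = 1 := h
    refine ⟨h0, (hfix _ ((Aalg hg K).add_mem hfA hf'A) ?_ (fun a ha => ?_) ?_).resolve_left fun h => hf0 ?_⟩
    · rw [add_mul, mul_add, mul_add, hff, h0, ← hc.eq, h0, show f' * f' = f' by rw [hf', hcm, hff]]
      abel
    · show aV hg a * (f + f') * aV hg a⁻¹ = _
      rw [mul_add, add_mul]
      exact congrArg₂ (· + ·) (hfH a ha) (hswap a ha)
    · show aV hg (s : MulAut E) * (f + f') * aV hg (s : MulAut E)⁻¹ = _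
      rw [mul_add, add_mul, add_comm f f']
      exact congrArg₂ (· + ·) rfl hss |>.trans rfl
    · calc f = f * (f + f') := by rw [mul_add, hff, h0, add_zero]
        _ = 0 := by rw [h, mul_zero]
  obtain ⟨σf, hσA, hσ⟩ := exists_adj hfA
  have hσσ : σf * σf = σf := by
    have := hσ.mul hσ
    rw [hff] at this
    exact (hσ.unique this).symm
  have hcf := Aalg_comm hfA hσA
  have hσH : ∀ a ∈ H, cv hg a σf = σf := fun a ha => by
    have := hσ.conj a
    rw [show aV hg a * f * aV hg a⁻¹ = f from hfH a ha] at this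
    exact (hσ.unique this).symm
  have hKDf : ∀ T ∈ Aalg hg K, ∀ a ∈ K, ∀ x, a x ∈ Dof hg (fixW hg T) ↔ x ∈ Dof hg (fixW hg T) :=
    fun T hT a ha => Dof_invariant hg _ (fun v => aV_fixW hg (Aalg_commute_K hT ha))
      (fun v => aV_fixW hg (Aalg_commute_K hT (K.inv_mem ha)))
  have hHDf : ∀ T : Module.End (ZMod 2) (Vsp hg), (∀ a ∈ H, cv hg a T = T) →
      ∀ a ∈ H, ∀ x, a x ∈ Dof hg (fixW hg T) ↔ x ∈ Dof hg (fixW hg T) :=
    fun T hT a ha => Dof_invariant hg _ (fun v => aV_fixW hg ((conj_eq_iff a T).mp (hT a ha)))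
      (fun v => aV_fixW hg ((conj_eq_iff _ T).mp (hT _ (H.inv_mem ha))))
  have hdec : ∀ T T' : Module.End (ZMod 2) (Vsp hg), T * T = T → T + T' = 1 → T * T' = 0 →
      ∀ v, T v = 0 ↔ T' v = v := by
    intro T T' hTT hsum h0 v
    have h1 := LinearMap.congr_fun hsum v
    rw [LinearMap.add_apply, Module.End.one_apply] at h1
    constructor
    · intro h; rwa [h, zero_add] at h1
    · intro h; rw [← h, ← Module.End.mul_apply, h0, LinearMap.zero_apply]
  have hsfix : ∀ (T : Module.End (ZMod 2) (Vsp hg)) (x : E),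
      (s : MulAut E) x ∈ Dof hg (fixW hg (cv hg (s : MulAut E) T)) ↔ x ∈ Dof hg (fixW hg T) := by
    intro T x
    simp only [mem_Dof, mem_fixW, ← aV_q, cv, Module.End.mul_apply]
    have hinv : ∀ v, aV hg (s : MulAut E)⁻¹ (aV hg (s : MulAut E) v) = v := fun v => by
      rw [← Module.End.mul_apply, aV_inv_mul, Module.End.one_apply]
    rw [hinv]
    refine ⟨fun h => ?_, fun h => by rw [h]⟩
    have := congrArg (aV hg (s : MulAut E)⁻¹) h
    rwa [hinv, hinv] at this
  by_cases hp0 : f * σf = 0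
  · -- exchanged isotropic halves
    obtain ⟨h0, hsum⟩ := halves f hfA hff hf0 hf1 hfH
    have hσs : σf = cv hg (s : MulAut E) f := by
      have hσ' := (hσ.conj (s : MulAut E))
      have hone := IsAdj.unique (IsAdj.one (hg := hg)) (by
        have := hσ.add hσ'
        rwa [show f + aV hg (s : MulAut E) * f * aV hg (s : MulAut E)⁻¹ = 1 from hsum] at this)
      set f' := cv hg (s : MulAut E) f
      set σ' := aV hg (s : MulAut E) * σf * aV hg (s : MulAut E)⁻¹ with hσ'def
      have h0' : f' * σ' = 0 := by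
        show cv hg _ f * cv hg _ σf = 0
        rw [hcm, hp0, cv, mul_zero, zero_mul]
      have h1 : f' * σf = f' := by
        have := congrArg (f' * ·) hone.symm
        simpa [mul_add, h0'] using this
      have h2 : σf = f' * σf := by
        have := congrArg (· * σf) hsum.symm
        simpa [add_mul, hp0] using this
      rw [h2, h1]
    refine solve_lagrangian hg hK hn hfpf hHS s.2 hidx hHn hs2 (Dof hg (fixW hg f)) (z_mem_Dof hg _)
      ?_ (hKDf f hfA) (hHDf f hfH) ?_ ?_
    · intro x hx y hy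
      rw [mem_Dof, mem_fixW] at hx hy
      refine bc_eq_zero_iff.mp ?_
      rw [← B_q hg, ← hx, ← hy, hσ, ← Module.End.mul_apply, ← hcf.eq, hp0, LinearMap.zero_apply, map_zero]
    · intro x hx hsx
      have h1 := (hsfix f x).mpr hx
      rw [mem_Dof, mem_fixW] at h1 hsx
      have h : q hg ((s : MulAut E) x) = 0 := by
        rw [← hsx, ← h1, ← Module.End.mul_apply, h0, LinearMap.zero_apply]
      rw [← aV_q] at h
      refine (q_eq_zero_iff hg).mp ?_
      have h5 := congrArg (aV hg (s : MulAut E)⁻¹) h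
      rwa [← Module.End.mul_apply, aV_inv_mul, Module.End.one_apply, map_zero] at h5
    · intro x
      obtain ⟨d, hd⟩ := q_surjective hg (f (q hg x))
      refine ⟨d, ?_, (s : MulAut E)⁻¹ (d⁻¹ * x), ?_, ?_⟩
      · rw [mem_Dof, mem_fixW, hd, ← Module.End.mul_apply, hff]
      · rw [← hsfix, MulAut.apply_inv_self, mem_Dof, mem_fixW, q_mul, q_inv, hd]
        refine (hdec f _ hff hsum h0 _).mp ?_
        rw [map_add, ← Module.End.mul_apply, hff, ← two_smul (ZMod 2) (f (q hg x)),
          show (2 : ZMod 2) = 0 from rfl, zero_smul]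
      · rw [MulAut.apply_inv_self, mul_inv_cancel_left]
  · -- orthogonal halves
    set F := f * σf with hF
    have hFA : F ∈ Aalg hg K := (Aalg hg K).mul_mem hfA hσA
    have hFF : F * F = F := by rw [hF, hcf.symm.mul_mul_mul_comm, hff, hσσ]
    have hFσ : IsAdj F F := by
      have := hσ.mul hσ.symm
      rwa [← hF] at this
    have hF1 : F ≠ 1 := fun h => hf1 (by
      calc f = f * F := by rw [h, mul_one]
        _ = F := by rw [hF, ← mul_assoc, hff]
        _ = 1 := h)
    have hFH : ∀ a ∈ H, cv hg a F = F := fun a ha => by rw [hF, ← hcm, hfH a ha, hσH a ha]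
    obtain ⟨h0, hsum⟩ := halves F hFA hFF hp0 hF1 hFH
    have hcent : ∀ y : E, y ∈ Subgroup.centralizer (Dof hg (fixW hg F) : Set E) ↔ F (q hg y) = 0 := by
      intro y
      rw [mem_centralizer_iff_B]
      constructor
      · intro h
        refine eq_zero_of_B hg fun w => ?_
        rw [hFσ]
        exact h _ ((mem_fixW hg).mpr (LinearMap.congr_fun hFF w))
      · intro h w hw
        rw [← (mem_fixW hg).mp hw, ← hFσ, h, map_zero, LinearMap.zero_apply]
    refine solve_halves hg ih hK hS hn hfpf hHS hidx hHn hs2 (Dof hg (fixW hg F)) (z_mem_Dof hg _)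
      (Dof_ne_top hg fun h => hF1 ?_) (exists_Dof_not_inZ hg fun h => hp0 ?_) (hKDf F hFA) (hHDf F hFH)
      ?_ ?_ ?_
    · exact LinearMap.ext fun v => (mem_fixW hg).mp (h ▸ Submodule.mem_top (x := v))
    · refine LinearMap.ext fun v => ?_
      have hv : F v ∈ fixW hg F := (mem_fixW hg).mpr (LinearMap.congr_fun hFF v)
      rw [h] at hv
      exact (Submodule.mem_bot _).mp hv
    · intro x
      rw [hcent, hdec F _ hFF hsum h0, ← mem_fixW, ← mem_Dof, hsfix]
    · intro x hx hx'
      rw [hcent] at hx'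
      rw [mem_Dof, mem_fixW, hx'] at hx
      exact (q_eq_zero_iff hg).mp hx.symm
    · intro x
      obtain ⟨d, hd⟩ := q_surjective hg (F (q hg x))
      refine ⟨d, ?_, d⁻¹ * x, ?_, (mul_inv_cancel_left d x).symm⟩
      · rw [mem_Dof, mem_fixW, hd, ← Module.End.mul_apply, hFF]
      · rw [hcent, q_mul, q_inv, hd, map_add, ← Module.End.mul_apply, hFF,
          ← two_smul (ZMod 2) (F (q hg x)), show (2 : ZMod 2) = 0 from rfl, zero_smul]

end Cfsg.Agent.DadeTwo
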