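import Cfsg.Agent.Lib.Char.DadeTwo.Irred
import Mathlib.FieldTheory.Finite.Basic
import Mathlib.GroupTheory.FiniteAbelian.Duality
import Mathlib.RingTheory.RootsOfUnity.AlgebraicallyClosed
import Mathlib.GroupTheory.Perm.Cycle.Type

/-!
# Existence of a fixed rank one idempotent
-/

set_option autoImplicit false
set_option linter.unusedSectionVars false
set_option linter.style.haveILetI false
set_option linter.unusedSimpArgs false
set_option maxHeartbeats 800000

namespace Cfsg.Agent.DadeTwo

open scoped MonoidAlgebra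

universe u

variable {E : Type u} [Group E] [Finite E] {z : E} (hg : Good z)
include hg

/-- Rank one idempotents exist. -/
theorem exists_rank1 : ∃ p, Rank1 z p := by
  classical
  haveI : Finite (Subgroup E) := Finite.of_injective (fun H : Subgroup E => (H : Set E)) SetLike.coe_injective
  obtain ⟨L, hZL, hmax⟩ := (Set.toFinite {L : Subgroup E | ∀ x ∈ L, ∀ y ∈ L, Commute x y}).exists_le_maximal
    (a := Subgroup.zpowers z) (fun x hx y _ => by
      obtain ⟨n, rfl⟩ := Subgroup.mem_zpowers_iff.mp hx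
      exact (hg.cz y).zpow_left n)
  have hc := hmax.prop
  have hz : z ∈ L := hZL (Subgroup.mem_zpowers z)
  have hout : ∀ x, x ∉ L → ∃ l : L, ¬ Commute x (l : E) := by
    intro x hx
    by_contra h
    push Not at h
    have hset : ∀ a ∈ (L : Set E) ∪ {x}, ∀ b ∈ (L : Set E) ∪ {x}, a * b = b * a := by
      rintro a (ha | rfl) b (hb | rfl)
      exacts [(hc a ha b hb).eq, (h ⟨a, ha⟩).eq.symm, (h ⟨b, hb⟩).eq, rfl]
    let J : Subgroup E := Subgroup.closure ((L : Set E) ∪ {x})
    have hJ : ∀ a ∈ J, ∀ b ∈ J, Commute a b := by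
      intro a ha b hb
      induction ha, hb using Subgroup.closure_induction₂ with
      | mem a b ha hb => exact hset a ha b hb
      | one_left b _ => exact Commute.one_left b
      | one_right a _ => exact Commute.one_right a
      | mul_left a b c _ _ _ h1 h2 => exact h1.mul_left h2
      | mul_right a b c _ _ _ h1 h2 => exact h1.mul_right h2
      | inv_left a b _ _ h1 => exact h1.inv_left
      | inv_right a b _ _ h1 => exact h1.inv_right
    exact hx (hmax.le_of_ge hJ (fun y hy => Subgroup.subset_closure (Or.inl hy))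
      (Subgroup.subset_closure (Or.inr rfl)))
  letI : CommGroup L := { (inferInstance : Group L) with mul_comm := fun a b => Subtype.ext (hc a a.2 b b.2).eq }
  set Z : Subgroup L := Subgroup.zpowers ⟨z, hz⟩
  have hZmem : ∀ x ∈ Z, x = 1 ∨ x = ⟨z, hz⟩ := by
    intro x hx
    obtain ⟨n, rfl⟩ := Subgroup.mem_zpowers_iff.mp hx
    have h2 : (⟨z, hz⟩ : L) ^ (2 : ℤ) = 1 := by
      rw [zpow_two]; exact Subtype.ext hg.sq
    rcases Int.even_or_odd n with ⟨m, rfl⟩ | ⟨m, rfl⟩
    · left; rw [← two_mul, zpow_mul, h2, one_zpow]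
    · right; rw [zpow_add, zpow_mul, h2, one_zpow, one_mul, zpow_one]
  have hzne : (⟨z, hz⟩ : L) ≠ 1 := fun h => hg.ne (congrArg Subtype.val h)
  have hzz : (⟨z, hz⟩ : L) * ⟨z, hz⟩ = 1 := Subtype.ext hg.sq
  let sgn : Z →* ℂˣ :=
    { toFun := fun x => if (x : L) = 1 then 1 else -1
      map_one' := if_pos rfl
      map_mul' := fun x y => by
        rw [Subgroup.coe_mul]
        rcases hZmem x x.2 with h | h <;> rcases hZmem y y.2 with h' | h' <;>
          simp [h, h', hzne, hzz] }
  haveI : NeZero (Monoid.exponent L : ℂ) := ⟨Nat.cast_ne_zero.mpr Monoid.exponent_ne_zero_of_finite⟩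
  obtain ⟨χ, hχ⟩ := MonoidHom.domRestrict_surjective ℂ Z sgn
  refine ⟨_, eLam_rank1 hg L (fun a b => Subtype.ext (hc a a.2 b b.2).eq) hz
    ((Units.coeHom ℂ).comp χ) ?_ hout⟩
  have h1 : χ ⟨z, hz⟩ = sgn ⟨⟨z, hz⟩, Subgroup.mem_zpowers _⟩ := by
    rw [← hχ]; rfl
  show ((χ ⟨z, hz⟩ : ℂˣ) : ℂ) = -1
  rw [h1]
  simp [sgn, hzne]

variable {K S : Subgroup (MulAut E)}

/-- The pairings of the translates are unchanged by an isometry commuting with `K`. -/
theorem bc_translate {b : MulAut E} (hb : aV hg b ∈ Aalg hg K) (x y : E) {k k' : MulAut E}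
    (hk : k ∈ K) (hk' : k' ∈ K) : bc (k (b x)) (k' (b y)) = bc (k x) (k' y) := by
  have h1 := LinearMap.congr_fun (Aalg_commute_K hb hk).eq (q hg x)
  have h2 := LinearMap.congr_fun (Aalg_commute_K hb hk').eq (q hg y)
  simp only [Module.End.mul_apply] at h1 h2
  rw [← B_q hg, ← B_q hg, ← aV_q hg k, ← aV_q hg k', ← aV_q hg b x, ← aV_q hg b y, ← h1, ← h2,
    B_aV, aV_q, aV_q]

/-- Isometries in the image of the centre lift to automorphisms. -/
theorem exists_lift (hK : Odd (Nat.card K)) (hfpf : Fpf z K) {t t' : Module.End (ZMod 2) (Vsp hg)}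
    (ht : t ∈ Aalg hg K) (hadj : IsAdj t t') (hinv : t' * t = 1) :
    ∃ a : MulAut E, aV hg a = t ∧ ∀ x, Pl (kl K) (a x) = Pl (kl K) x := by
  have hodd : Odd (kl K).length := by rwa [kl_length]
  have hiso : ∀ v w, B hg (t v) (t w) = B hg v w := fun v w => by
    rw [hadj, ← Module.End.mul_apply, hinv, Module.End.one_apply]
  have huniq : ∀ b b' : E, q hg b = q hg b' → Pl (kl K) b = Pl (kl K) b' → b = b' := by
    intro b b' h h'
    obtain ⟨c, rfl⟩ := (q_eq_iff hg).mp h
    rw [Pl_mul_zz hg _ hodd] at h'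
    rw [mul_eq_left] at h'
    rw [h', mul_one]
  have hex : ∀ a : E, ∃ b, q hg b = t (q hg a) ∧ Pl (kl K) b = Pl (kl K) a := by
    intro a
    obtain ⟨b, hb⟩ := q_surjective hg (t (q hg a))
    obtain ⟨c, hc⟩ := inZ_iff_zz.mp (Pl_inZ hg hfpf b)
    obtain ⟨d, hd⟩ := inZ_iff_zz.mp (Pl_inZ hg hfpf a)
    refine ⟨b * zz z (c + d), ?_, ?_⟩
    · rw [q_mul, hb, (q_eq_zero_iff hg).mpr (zz_inZ _), add_zero]
    · rw [Pl_mul_zz hg _ hodd, hc, hd, ← zz_add hg, ← add_assoc, add_self_zero, zero_add]
  choose F hFq hFP using hex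
  have hmul : ∀ a a', F (a * a') = F a * F a' := by
    intro a a'
    refine huniq _ _ (by rw [hFq, q_mul, q_mul, hFq, hFq, map_add]) ?_
    obtain ⟨c, h1, h2⟩ := Pl_rel hg (kl K) a a' (F a) (F a') fun k hk k' hk' => by
      have h1 := LinearMap.congr_fun (Aalg_commute_K ht (mem_kl.mp hk)).eq (q hg a)
      have h2 := LinearMap.congr_fun (Aalg_commute_K ht (mem_kl.mp hk')).eq (q hg a')
      simp only [Module.End.mul_apply] at h1 h2
      rw [← B_q hg, ← B_q hg, ← aV_q hg k (F a), ← aV_q hg k' (F a'), hFq, hFq, ← h1, ← h2, hiso,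
        aV_q, aV_q]
    rw [hFP, h1, h2, hFP, hFP]
  let Fh : E →* E := MonoidHom.mk' F hmul
  have hinj : Function.Injective Fh := by
    refine (injective_iff_map_eq_one Fh).mpr fun a ha => ?_
    change F a = 1 at ha
    refine huniq a 1 ?_ ?_
    · have h := hFq a
      rw [ha, q_one] at h
      have := congrArg t' h
      rw [map_zero, ← Module.End.mul_apply, hinv, Module.End.one_apply] at this
      rw [q_one, ← this]
    · rw [← hFP a, ha]
  refine ⟨MulEquiv.ofBijective Fh (Finite.injective_iff_bijective.mp hinj), LinearMap.ext fun v => ?_, hFP⟩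
  obtain ⟨x, rfl⟩ := q_surjective hg v
  rw [aV_q]
  exact hFq x

/-- The case where the image of the centre is a field. -/
theorem solve_field [Nontrivial (Vsp hg)] (ih : Below.{u} (Nat.card E)) (hK : Odd (Nat.card K))
    (hS : IsPGroup 2 S) (hn : ∀ s ∈ S, ∀ k ∈ K, s * k * s⁻¹ ∈ K) (hfpf : Fpf z K)
    (hirr : Irred hg K S) (hunit : ∀ T ∈ Aalg hg K, T ≠ 0 → ∃ U ∈ Aalg hg K, U * T = 1) :
    ∃ p, Rank1 z p ∧ ∀ s ∈ S, alg s p = p := by
  classical
  haveI : Finite (Module.End (ZMod 2) (Vsp hg)) :=
    Finite.of_injective (fun T => (T : Vsp hg → Vsp hg)) DFunLike.coe_injective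
  have hodd : Odd (kl K).length := by rwa [kl_length]
  have hchar : ∀ T : Module.End (ZMod 2) (Vsp hg), T + T = 0 := fun T => by
    rw [← two_smul (ZMod 2) T, show (2 : ZMod 2) = 0 from rfl, zero_smul]
  -- the torus
  let T0 : Subgroup (MulAut E) :=
    { carrier := {a | aV hg a ∈ Aalg hg K ∧ ∀ x, Pl (kl K) (a x) = Pl (kl K) x}
      one_mem' := ⟨by rw [aV_one]; exact (Aalg hg K).one_mem, fun x => rfl⟩
      mul_mem' := fun {a b} ha hb => ⟨by rw [aV_mul]; exact (Aalg hg K).mul_mem ha.1 hb.1,
        fun x => by rw [MulAut.mul_apply, ha.2, hb.2]⟩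
      inv_mem' := fun {a} ha => ⟨by
          obtain ⟨t', ht', hadj⟩ := exists_adj ha.1
          rwa [IsAdj.unique (fun v w => B_aV_left hg a v w) hadj],
        fun x => by
          conv_rhs => rw [← MulAut.apply_inv_self _ a x]
          rw [ha.2]⟩ }
  have hTodd : Odd (Nat.card T0) := by
    rw [← Nat.not_even_iff_odd, even_iff_two_dvd]
    intro h2
    haveI : Fact (Nat.Prime 2) := ⟨Nat.prime_two⟩
    obtain ⟨⟨a, ha⟩, ho⟩ := exists_prime_orderOf_dvd_card' 2 h2
    have ha2 : a * a = 1 := by
      have := pow_orderOf_eq_one (⟨a, ha⟩ : T0)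
      rw [ho, pow_two] at this
      exact congrArg Subtype.val this
    have ht1 : aV hg a = 1 := by
      by_contra hne
      obtain ⟨U, -, hU⟩ := hunit (aV hg a - 1) ((Aalg hg K).sub_mem ha.1 (Aalg hg K).one_mem)
        (sub_ne_zero.mpr hne)
      have hsq : (aV hg a - 1) * (aV hg a - 1) = 0 := by
        rw [sub_mul, one_mul, mul_sub, mul_one, ← aV_mul, ha2, aV_one]
        have := hchar (1 - aV hg a)
        abel_nf at this ⊢
        exact this
      have : aV hg a - 1 = 0 := by
        calc aV hg a - 1 = U * (aV hg a - 1) * (aV hg a - 1) := by rw [hU, one_mul]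
          _ = 0 := by rw [mul_assoc, hsq, mul_zero]
      exact hne (sub_eq_zero.mp this)
    have : a = 1 := MulEquiv.ext fun x => by
      have hq : q hg (a x) = q hg x := by rw [← aV_q, ht1]; rfl
      obtain ⟨c, hc⟩ := (q_eq_iff hg).mp hq
      have h := ha.2 x
      rw [hc, Pl_mul_zz hg _ hodd, mul_eq_left] at h
      rw [hc, h, mul_one]; rfl
    subst this
    rw [show (⟨1, ha⟩ : T0) = 1 from rfl, orderOf_one] at ho
    norm_num at ho
  obtain ⟨u, hu, hune⟩ := exists_not_selfAdj (hg := hg) hK hfpf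
  obtain ⟨u', hu', hadj⟩ := exists_adj hu
  have hu0 : u ≠ 0 := fun h => hune u' hadj (by
    rw [IsAdj.unique hadj (show IsAdj u 0 by intro v w; simp [h]), h])
  obtain ⟨U, hU, hUu⟩ := hunit u hu hu0
  obtain ⟨U', hU', hUadj⟩ := exists_adj hU
  set t := U * u' with ht
  have htA : t ∈ Aalg hg K := (Aalg hg K).mul_mem hU hu'
  have htadj : IsAdj t (u * U') := hUadj.mul hadj.symm
  have hU'u' : u' * U' = 1 := ((hUadj.mul hadj).unique (by rw [hUu]; exact IsAdj.one))
  have htinv : (u * U') * t = 1 := by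
    calc (u * U') * (U * u') = (u * U) * (U' * u') := by
          rw [(Aalg_comm hU' hU).mul_mul_mul_comm]
      _ = 1 := by rw [(Aalg_comm hu hU).eq, hUu, (Aalg_comm hU' hu').eq, hU'u', one_mul]
  obtain ⟨a₀, ha₀, ha₀P⟩ := exists_lift hg hK hfpf htA htadj htinv
  have ha₀T : a₀ ∈ T0 := ⟨ha₀ ▸ htA, ha₀P⟩
  have htne : t ≠ 1 := fun h => hune u' hadj (by
    calc u' = u * U * u' := by rw [(Aalg_comm hu hU).eq, hUu, one_mul]
      _ = u := by rw [mul_assoc, ← ht, h, mul_one])
  have hTfpf : Fpf z T0 := by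
    intro x hx
    obtain ⟨W, -, hW⟩ := hunit (t - 1) ((Aalg hg K).sub_mem htA (Aalg hg K).one_mem) (sub_ne_zero.mpr htne)
    have hq : t (q hg x) = q hg x := by
      rw [← ha₀, aV_q, q_eq_iff hg]
      rcases hx a₀ ha₀T with h | h
      · exact ⟨0, by rw [zz_zero, mul_one, h]⟩
      · exact ⟨1, by rw [zz_one, h]⟩
    refine (q_eq_zero_iff hg).mp ?_
    have : W ((t - 1) (q hg x)) = q hg x := by
      rw [← Module.End.mul_apply, hW, Module.End.one_apply]
    rw [← this, LinearMap.sub_apply, Module.End.one_apply, hq, sub_self, map_zero]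
  have hTn : ∀ s ∈ S, ∀ a ∈ T0, s * a * s⁻¹ ∈ T0 := by
    intro s hs a ha
    have hA : aV hg (s * a * s⁻¹) ∈ Aalg hg K := by
      rw [aV_mul, aV_mul]
      exact conj_mem_Aalg (norm_iff hn hs) ha.1
    refine ⟨hA, fun x => ?_⟩
    have hy : (s * a * s⁻¹) x = s (a (s⁻¹ x)) := rfl
    obtain ⟨c, h1, h2⟩ := Pl_conj hg (norm_iff hn hs) (a (s⁻¹ x)) (s⁻¹ x) fun k hk k' hk' => by
      rw [← hy, MulAut.apply_inv_self]
      exact bc_translate hg hA x x hk hk'
    rw [MulAut.apply_inv_self] at h2
    rw [hy, h1, h2, ha.2]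
  -- the elements of `S` centralizing the image
  let S0 : Subgroup (MulAut E) :=
    { carrier := {a | a ∈ S ∧ ∀ T ∈ Aalg hg K, Commute T (aV hg a)}
      one_mem' := ⟨S.one_mem, fun T _ => by rw [aV_one]; exact Commute.one_right T⟩
      mul_mem' := fun {a b} ha hb => ⟨S.mul_mem ha.1 hb.1, fun T hT => by
        rw [aV_mul]; exact (ha.2 T hT).mul_right (hb.2 T hT)⟩
      inv_mem' := fun {a} ha => ⟨S.inv_mem ha.1, fun T hT => by
        have h := (ha.2 T hT).eq
        show T * aV hg a⁻¹ = aV hg a⁻¹ * T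
        calc T * aV hg a⁻¹ = aV hg a⁻¹ * (aV hg a * T) * aV hg a⁻¹ := by
              rw [← mul_assoc (aV hg a⁻¹), aV_inv_mul, one_mul]
          _ = aV hg a⁻¹ * (T * aV hg a) * aV hg a⁻¹ := by rw [h]
          _ = aV hg a⁻¹ * T := by rw [mul_assoc, mul_assoc T, aV_mul_inv, mul_one]⟩ }
  let W : Submodule (ZMod 2) (Vsp hg) :=
    { carrier := {v | ∀ a ∈ S0, aV hg a v = v}
      zero_mem' := fun a _ => map_zero _
      add_mem' := fun {v w} hv hw a ha => by rw [map_add, hv a ha, hw a ha]
      smul_mem' := fun c {v} hv a ha => by rw [map_smul, hv a ha] }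
  by_cases hWt : W = ⊤
  · -- the action is semiregular, so `S` is cyclic
    have hS0 : ∀ a ∈ S0, a = 1 := by
      intro a ha
      have ht : aV hg a = 1 := LinearMap.ext fun v => (hWt ▸ Submodule.mem_top : v ∈ W) a ha
      have hcomm : ∀ k ∈ K, a * k * a⁻¹ = k := by
        intro k hk
        set d := a * k * a⁻¹ * k⁻¹
        have hd : d ∈ K := K.mul_mem (hn a ha.1 k hk) (K.inv_mem hk)
        have hdt : aV hg d = 1 := by
          rw [aV_mul, aV_mul, aV_mul, ht, one_mul,
            show aV hg a⁻¹ = 1 by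
              have := aV_inv_mul hg a
              rwa [ht, mul_one] at this,
            mul_one, aV_mul_inv]
        have hd2 : d * d = 1 := MulEquiv.ext fun x => by
          have hq : q hg (d x) = q hg x := by rw [← aV_q, hdt]; rfl
          obtain ⟨c, hc⟩ := (q_eq_iff hg).mp hq
          have hz : d (zz z c) = zz z c := by
            rcases zmod_two_cases c with rfl | rfl
            · rw [zz_zero, map_one]
            · rw [zz_one]; exact aut_z hg d
          rw [MulAut.mul_apply, hc, map_mul, hc, hz, mul_assoc, (zz_inZ (z := z) c).sq hg, mul_one]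
          rfl
        have : d = 1 := orderOf_eq_one_iff.mp (Nat.eq_one_of_dvd_coprimes
          (Nat.coprime_two_left.mpr hK) (orderOf_dvd_of_pow_eq_one (by rw [pow_two]; exact hd2))
          (by
            have := orderOf_dvd_natCard (⟨d, hd⟩ : K)
            rwa [Subgroup.orderOf_mk] at this))
        calc a * k * a⁻¹ = d * k := (inv_mul_cancel_right _ k).symm
          _ = k := by rw [this, one_mul]
      refine MulEquiv.ext fun x => ?_
      have hq : q hg (a x) = q hg x := by rw [← aV_q, ht]; rfl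
      obtain ⟨c, hc⟩ := (q_eq_iff hg).mp hq
      have hP : Pl (kl K) (a x) = Pl (kl K) x := by
        have h : Pl (kl K) (a x) = a (Pl (kl K) x) := by
          rw [map_Pl, List.map_congr_left (g := id) fun k hk => hcomm k (mem_kl.mp hk), List.map_id]
        rw [h]
        rcases Pl_inZ hg hfpf x with e | e <;> rw [e]
        exacts [map_one a, aut_z hg a]
      rw [hc, Pl_mul_zz hg _ hodd, mul_eq_left] at hP
      rw [hc, hP, mul_one]; rfl
    letI : CommRing (Aalg hg K) :=
      { (inferInstance : Ring (Aalg hg K)) with mul_comm := fun a b => Subtype.ext (Aalg_comm a.2 b.2).eq }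
    have hF : IsField (Aalg hg K) :=
      { exists_pair_ne := ⟨0, 1, fun h => zero_ne_one (congrArg Subtype.val h)⟩
        mul_comm := mul_comm
        mul_inv_cancel := fun {a} ha => by
          obtain ⟨U, hU, hUa⟩ := hunit a a.2 fun h => ha (Subtype.ext h)
          exact ⟨⟨U, hU⟩, by rw [mul_comm]; exact Subtype.ext hUa⟩ }
    letI : Field (Aalg hg K) := hF.toField
    let φ : S → (Aalg hg K ≃ₐ[ZMod 2] Aalg hg K) := fun s =>
      { toFun := fun T => ⟨cv hg (s : MulAut E) T, conj_mem_Aalg (norm_iff hn s.2) T.2⟩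
        invFun := fun T => ⟨cv hg (s : MulAut E)⁻¹ T, conj_mem_Aalg (norm_iff hn (S.inv_mem s.2)) T.2⟩
        left_inv := fun T => Subtype.ext (by
          show cv hg (s : MulAut E)⁻¹ (cv hg (s : MulAut E) T) = T
          rw [cv, cv, conj_conj, inv_mul_cancel, inv_one, aV_one, one_mul, mul_one])
        right_inv := fun T => Subtype.ext (by
          show cv hg (s : MulAut E) (cv hg (s : MulAut E)⁻¹ T) = T
          rw [cv, cv, conj_conj, mul_inv_cancel, inv_one, aV_one, one_mul, mul_one])
        map_mul' := fun T U => Subtype.ext (conj_mul (s : MulAut E) _ _).symm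
        map_add' := fun T U => Subtype.ext (by
          show aV hg (s : MulAut E) * (_ + _) * aV hg (s : MulAut E)⁻¹ = _
          rw [mul_add, add_mul]; rfl)
        commutes' := fun r => Subtype.ext (by
          show aV hg (s : MulAut E) * (algebraMap (ZMod 2) _ r) * aV hg (s : MulAut E)⁻¹ = algebraMap (ZMod 2) _ r
          rw [← Algebra.commutes, mul_assoc, aV_mul_inv, mul_one]) }
    let Φ : S →* (Aalg hg K ≃ₐ[ZMod 2] Aalg hg K) := MonoidHom.mk' φ fun a b =>
      AlgEquiv.ext fun T => Subtype.ext (conj_conj (a : MulAut E) b _).symm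
    have hinj : Function.Injective Φ := by
      refine (injective_iff_map_eq_one Φ).mpr fun s hs => Subtype.ext (hS0 _ ⟨s.2, fun T hT => ?_⟩)
      have := congrArg Subtype.val (AlgEquiv.congr_fun hs ⟨T, hT⟩)
      exact (conj_eq_iff (s : MulAut E) T).mp this
    haveI : IsCyclic S := isCyclic_of_injective Φ hinj
    obtain ⟨g, hgen⟩ := IsCyclic.exists_generator (α := S)
    obtain ⟨p₀, hp₀⟩ := exists_rank1 hg
    have hiter : ∀ m x, (⇑(alg (g : MulAut E)))^[m] x = alg ((g : MulAut E) ^ m) x := by
      intro m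
      induction m with
      | zero => intro x; rw [pow_zero, alg_one]; rfl
      | succ m ih => intro x; rw [Function.iterate_succ_apply', ih, pow_succ', alg_mul]
    obtain ⟨P, hP, hfix⟩ := exists_fixed_cyclic hg (alg (g : MulAut E))
      (by rw [alg_of, aut_z hg]) (orderOf_pos g) (fun x => by
        rw [hiter, ← SubmonoidClass.coe_pow, pow_orderOf_eq_one, OneMemClass.coe_one, alg_one]) hp₀
    refine ⟨P, hP, fun s hs => ?_⟩
    obtain ⟨m, hm⟩ := (mem_powers_iff_mem_zpowers.mpr (hgen ⟨s, hs⟩))
    have : s = (g : MulAut E) ^ m := congrArg Subtype.val hm.symm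
    rw [this, ← hiter]
    clear hm this
    induction m with
    | zero => rfl
    | succ m ih => rw [Function.iterate_succ_apply', ih, hfix]
  · have hWb : W ≠ ⊥ := by
      intro hWb
      letI act : MulAction S0 (Vsp hg) := MulAction.compHom (Vsp hg) ((aVHom hg).comp S0.subtype)
      haveI : Fact (Nat.Prime 2) := ⟨Nat.prime_two⟩
      have hp : IsPGroup 2 S0 := hS.to_le fun a ha => ha.1
      have hmod := hp.card_modEq_card_fixedPoints (Vsp hg)
      have hev : 2 ∣ Nat.card (Vsp hg) := by
        obtain ⟨v, hv⟩ := exists_ne (0 : Vsp hg)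
        have h2 : addOrderOf v = 2 := addOrderOf_eq_prime (by
          rw [two_nsmul]; nth_rw 1 [← neg_eq hg v]; exact neg_add_cancel v) hv
        have := addOrderOf_dvd_natCard v
        rw [h2] at this
        exact this
      have hfix : MulAction.fixedPoints S0 (Vsp hg) = {0} := by
        ext v
        simp only [MulAction.mem_fixedPoints, Set.mem_singleton_iff]
        constructor
        · intro h
          have : v ∈ W := fun a ha => h ⟨a, ha⟩
          rw [hWb] at this
          exact (Submodule.mem_bot _).mp this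
        · rintro rfl a
          exact map_zero (aV hg (a : MulAut E))
      have h1 : Nat.card (MulAction.fixedPoints S0 (Vsp hg)) = 1 := by
        rw [hfix, Nat.card_coe_set_eq, Set.ncard_singleton]
      rw [h1] at hmod
      have := (Nat.modEq_zero_iff_dvd.mpr hev).symm.trans hmod
      exact absurd this (by decide)
    have hWT : ∀ a ∈ T0, ∀ v ∈ W, aV hg a v ∈ W := by
      intro a ha v hv b hb
      have h := LinearMap.congr_fun (hb.2 _ ha.1).eq v
      rw [Module.End.mul_apply, Module.End.mul_apply, hv b hb] at h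
      exact h.symm
    have hWS : ∀ a ∈ S, ∀ v ∈ W, aV hg a v ∈ W := by
      intro a ha v hv b hb
      have hb' : a⁻¹ * b * a ∈ S0 := ⟨S.mul_mem (S.mul_mem (S.inv_mem ha) hb.1) ha, fun T hT => by
        have h := hb.2 _ (conj_mem_Aalg (norm_iff hn ha) hT)
        rw [← conj_eq_iff] at h ⊢
        have := congrArg (fun X => aV hg a⁻¹ * X * aV hg a⁻¹⁻¹) h
        simp only [conj_conj, inv_mul_cancel] at this
        rw [← mul_assoc] at this
        rw [this, inv_one, aV_one, one_mul, mul_one]⟩
      have h := hv _ hb'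
      rw [aV_mul, aV_mul, Module.End.mul_apply, Module.End.mul_apply] at h
      have := congrArg (aV hg a) h
      rwa [← Module.End.mul_apply, aV_mul_inv, Module.End.one_apply] at this
    exact solve_invariant hg ih hTodd hS hTn hTfpf (Dof hg W) (z_mem_Dof hg W)
      (exists_Dof_not_inZ hg hWb) (Dof_ne_top hg hWt)
      (fun a ha => Dof_invariant hg W (hWT a ha) (hWT _ (T0.inv_mem ha)))
      (fun a ha => Dof_invariant hg W (hWS a ha) (hWS _ (S.inv_mem ha)))

omit hg

theorem solved_aux : ∀ (n : ℕ) (E : Type u) [Group E] [Finite E] (z : E),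
    Nat.card E ≤ n → Good z → Solved z := by
  intro n
  induction n with
  | zero =>
    intro E _ _ z h _
    exact absurd h (by have := Nat.card_pos (α := E); omega)
  | succ n ihn =>
    intro E _ _ z hcard hg K S hK hS hn hfpf
    have ih : Below.{u} (Nat.card E) := fun F _ _ w hlt hw => ihn F w (by omega) hw
    by_cases hirr : Irred hg K S
    · by_cases hnt : Nontrivial (Vsp hg)
      · rcases idem_or_unit hg hn hirr with h | h
        · exact solve_idem hg ih hK hS hn hfpf hirr h
        · exact solve_field hg ih hK hS hn hfpf hirr h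
      · -- `E` is the centre
        obtain ⟨p, hp⟩ := exists_rank1 hg
        refine ⟨p, hp, fun s _ => ?_⟩
        have hs : s = 1 := MulEquiv.ext fun x => by
          rw [MulAut.one_apply]
          rcases (q_eq_zero_iff hg).mp ((not_nontrivial_iff_subsingleton.mp hnt).elim (q hg x) 0) with
            rfl | rfl
          exacts [map_one s, aut_z hg s]
        rw [hs, alg_one]
    · simp only [Irred, not_forall, not_or] at hirr
      obtain ⟨W, hW, hWb, hWt⟩ := hirr
      exact solve_invariant hg ih hK hS hn hfpf (Dof hg W) (z_mem_Dof hg W)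
        (exists_Dof_not_inZ hg hWb) (Dof_ne_top hg hWt)
        (fun a ha => Dof_invariant hg W (hW.1 a ha) (hW.1 _ (K.inv_mem ha)))
        (fun a ha => Dof_invariant hg W (hW.2 a ha) (hW.2 _ (S.inv_mem ha)))

/-- A `2`-group normalizing an odd order group of automorphisms without fixed points on `E / Z(E)`
fixes a rank one idempotent. -/
theorem exists_fixed (E : Type u) [Group E] [Finite E] {z : E} (hg : Good z) : Solved z :=
  solved_aux _ E z le_rfl hg

end Cfsg.Agent.DadeTwo
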