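import Cfsg.Agent.Lib.Char.DadeTwo.Step

/-!
# Two halves exchanged by an automorphism
-/

set_option autoImplicit false
set_option linter.unusedSectionVars false
set_option linter.style.haveILetI false
set_option linter.unusedSimpArgs false
set_option maxHeartbeats 800000

namespace Cfsg.Agent.DadeTwo

open scoped MonoidAlgebra

universe u v

theorem Rank1.domCongr {E : Type u} [Group E] {E' : Type v} [Group E'] {z : E} (φ : E ≃* E')
    {p : ℂ[E]} (hp : Rank1 z p) : Rank1 (φ z) (MonoidAlgebra.domCongr ℂ ℂ φ p) := by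
  set A := MonoidAlgebra.domCongr ℂ ℂ φ
  have hof : ∀ x, A (MonoidAlgebra.of ℂ E x) = MonoidAlgebra.of ℂ E' (φ x) := fun x => by
    simp [A, MonoidAlgebra.of_apply]
  refine ⟨fun h => hp.ne ((map_eq_zero_iff _ A.injective).mp h), by rw [← map_mul, hp.idem], ?_,
    fun x => ?_⟩
  · rw [← hof, ← map_mul, hp.neg, map_neg]
  · obtain ⟨c, hc⟩ := hp.scalar (φ.symm x)
    refine ⟨c, ?_⟩
    have := congrArg A hc
    rwa [map_mul, map_mul, hof, φ.apply_symm_apply, map_smul] at this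

variable {E : Type u} [Group E] [Finite E] {z : E} (hg : Good z)
  {K S H : Subgroup (MulAut E)} {s : MulAut E}
include hg

/-- Invariance under both parts of `S`. -/
theorem fixed_of_index_two (hHS : H ≤ S) (hidx : ∀ a ∈ S, a ∈ H ∨ s⁻¹ * a ∈ H) {p : ℂ[E]}
    (hH : ∀ a ∈ H, alg a p = p) (hs : alg s p = p) : ∀ a ∈ S, alg a p = p := by
  intro a ha
  rcases hidx a ha with h | h
  · exact hH a h
  · conv_lhs => rw [show a = s * (s⁻¹ * a) by group]
    rw [alg_mul, hH _ h, hs]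

theorem solve_halves (ih : Below.{u} (Nat.card E)) (hK : Odd (Nat.card K)) (hS : IsPGroup 2 S)
    (hn : ∀ s ∈ S, ∀ k ∈ K, s * k * s⁻¹ ∈ K) (hfpf : Fpf z K) (hHS : H ≤ S)
    (hidx : ∀ a ∈ S, a ∈ H ∨ s⁻¹ * a ∈ H) (hHn : ∀ a ∈ H, s⁻¹ * a * s ∈ H) (hs2 : s * s ∈ H)
    (D : Subgroup E) (hz : z ∈ D) (hD : D ≠ ⊤) (hne : ∃ x ∈ D, ¬ InZ z x)
    (hKD : ∀ a ∈ K, ∀ x, a x ∈ D ↔ x ∈ D) (hHD : ∀ a ∈ H, ∀ x, a x ∈ D ↔ x ∈ D)
    (hsD : ∀ x, s x ∈ Subgroup.centralizer (D : Set E) ↔ x ∈ D)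
    (hrad : ∀ x ∈ D, x ∈ Subgroup.centralizer (D : Set E) → InZ z x)
    (hgen : ∀ x : E, ∃ d ∈ D, ∃ d' ∈ Subgroup.centralizer (D : Set E), x = d * d') :
    ∃ p, Rank1 z p ∧ ∀ a ∈ S, alg a p = p := by
  set D' := Subgroup.centralizer (D : Set E) with hD'
  have hz' : z ∈ D' := Subgroup.mem_centralizer_iff.mpr fun y _ => (hg.cz y).eq.symm
  have hnd : ∀ x ∈ D, (∀ y ∈ D, Commute x y) → InZ z x := fun x hx h =>
    hrad x hx (Subgroup.mem_centralizer_iff.mpr fun y hy => (h y hy).eq.symm)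
  have hnd' : ∀ x ∈ D', (∀ y ∈ D', Commute x y) → InZ z x := by
    intro x hx h
    refine hg.center x fun y => ?_
    obtain ⟨d, hd, d', hd', rfl⟩ := hgen y
    exact (show Commute x d from (Subgroup.mem_centralizer_iff.mp hx d hd).symm).mul_right (h d' hd')
  obtain ⟨p, hp, hfix⟩ := solve_restrict hg hz hnd hD ih hK (hS.to_le hHS)
    (fun a ha => hn a (hHS ha)) hfpf hKD hHD
  let φ : D ≃* D' :=
    { (s.toEquiv).subtypeEquiv fun x => (hsD x).symm with
      map_mul' := fun x y => Subtype.ext (map_mul s (x : E) (y : E)) }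
  have hφz : φ ⟨z, hz⟩ = ⟨z, hz'⟩ := Subtype.ext (aut_z hg s)
  have hp' := hp.domCongr φ
  rw [hφz] at hp'
  have himg : incl D' (MonoidAlgebra.domCongr ℂ ℂ φ p) = alg s (incl D p) :=
    (alg_incl s D D' φ (fun d => rfl) p).symm
  have hP := incl_prod_rank1 hg hz hz'
    (fun d hd d' hd' => (Subgroup.mem_centralizer_iff.mp hd' d hd)) hrad hgen
    (good_sub hg D hz hnd) (good_sub hg D' hz' hnd') hp hp'
  refine ⟨_, hP, fixed_of_index_two hg hHS hidx (fun a ha => ?_) ?_⟩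
  · rw [map_mul, hfix a ha, himg, ← alg_mul, show a * s = s * (s⁻¹ * a * s) by group, alg_mul,
      hfix _ (hHn a ha)]
  · rw [map_mul]
    have h1 : alg s (incl D' (MonoidAlgebra.domCongr ℂ ℂ φ p)) = incl D p := by
      rw [himg, ← alg_mul, hfix _ hs2]
    rw [h1, ← himg]
    exact (incl_commute (fun d hd d' hd' => (Subgroup.mem_centralizer_iff.mp hd' d hd)) _ _).eq.symm

theorem solve_lagrangian (hK : Odd (Nat.card K))
    (hn : ∀ s ∈ S, ∀ k ∈ K, s * k * s⁻¹ ∈ K) (hfpf : Fpf z K) (hHS : H ≤ S) (hsS : s ∈ S)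
    (hidx : ∀ a ∈ S, a ∈ H ∨ s⁻¹ * a ∈ H) (hHn : ∀ a ∈ H, s⁻¹ * a * s ∈ H) (hs2 : s * s ∈ H)
    (D : Subgroup E) (hz : z ∈ D) (hcD : ∀ x ∈ D, ∀ y ∈ D, Commute x y)
    (hKD : ∀ a ∈ K, ∀ x, a x ∈ D ↔ x ∈ D) (hHD : ∀ a ∈ H, ∀ x, a x ∈ D ↔ x ∈ D)
    (hinf : ∀ x ∈ D, s x ∈ D → InZ z x)
    (hgen : ∀ x : E, ∃ d ∈ D, ∃ d' ∈ D, x = d * s d') :
    ∃ p, Rank1 z p ∧ ∀ a ∈ S, alg a p = p := by
  classical
  have hbc : ∀ x ∈ D, ∀ y ∈ D, ∀ k ∈ kl K, ∀ k' ∈ kl K, bc (k x) (k' y) = 0 :=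
    fun x hx y hy k hk k' hk' => bc_eq_zero_iff.mpr
      (hcD _ ((hKD k (mem_kl.mp hk) x).mpr hx) _ ((hKD k' (mem_kl.mp hk') y).mpr hy))
  have hodd : Odd (kl K).length := by rwa [kl_length]
  -- the sign character
  let lam : D →* ℂ :=
    { toFun := fun x => if Pl (kl K) (x : E) = 1 then 1 else -1
      map_one' := if_pos (Pl_one _)
      map_mul' := fun x y => by
        rw [Subgroup.coe_mul, Pl_mul_comm hg _ _ _ (hbc x x.2 y y.2)]
        rcases Pl_inZ hg hfpf (x : E) with h | h <;> rcases Pl_inZ hg hfpf (y : E) with h' | h' <;>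
          simp [h, h', hg.ne, hg.sq] }
  have hlz : lam ⟨z, hz⟩ = -1 := by
    have := Pl_zz hg (kl K) hodd 1
    rw [zz_one] at this
    show (if Pl (kl K) z = 1 then (1 : ℂ) else -1) = -1
    rw [this, if_neg hg.ne]
  have hmax : ∀ x, x ∉ D → ∃ l : D, ¬ Commute x (l : E) := by
    intro x hx
    by_contra hcon
    push Not at hcon
    obtain ⟨d, hd, d', hd', rfl⟩ := hgen x
    have hc : ∀ l ∈ D, Commute (s d') l := fun l hl => by
      have := (hcD _ (D.inv_mem hd) l hl).mul_left (hcon ⟨l, hl⟩)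
      rwa [inv_mul_cancel_left] at this
    have hsd : InZ z (s d') := hg.center _ fun y => by
      obtain ⟨e, he, e', he', rfl⟩ := hgen y
      exact (hc e he).mul_right ((hcD d' hd' e' he').map s)
    refine hx (D.mul_mem hd ?_)
    rcases hsd with h | h <;> rw [h]
    exacts [D.one_mem, hz]
  have hcomm' : ∀ x y : D, Commute x y := fun x y => Subtype.ext (hcD x x.2 y y.2).eq
  set a := eLam D lam with ha
  have hr : Rank1 z a := eLam_rank1 hg D hcomm' hz lam hlz hmax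
  have hfixH : ∀ h ∈ H, alg h a = a := fun h hh => by
    refine alg_eLam D lam h (hHD h hh) fun l => ?_
    obtain ⟨c, h1, h2⟩ := Pl_conj hg (norm_iff hn (hHS hh)) (l : E) 1 fun k hk k' hk' => by
      rw [map_one, map_one, map_one, bc_one_left]
      exact hbc _ ((hHD h hh _).mpr l.2) _ ((hHD h hh _).mpr l.2) k (mem_kl.mpr hk) k' (mem_kl.mpr hk')
    rw [map_one, Pl_one, map_one, one_mul] at h2
    show (if Pl (kl K) (h l) = 1 then (1 : ℂ) else -1) = if Pl (kl K) (l : E) = 1 then 1 else -1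
    rw [h1, ← h2, mul_one]
    simp only [EmbeddingLike.map_eq_one_iff]
  set b := alg s a with hb
  have hrb : Rank1 z b := hr.map_alg hg s
  have hsb : alg s b = a := by rw [hb, ← alg_mul, hfixH _ hs2]
  set κ : ℝ := 2 / Nat.card D with hκdef
  have hκ : 0 < κ := div_pos two_pos (Nat.cast_pos.mpr Nat.card_pos)
  have haba : a * b * a = (κ : ℂ) • a := by
    letI := Fintype.ofFinite D
    set ι := MonoidAlgebra.of ℂ E
    have hterm : ∀ l : D, lam l⁻¹ • (a * ι (s l) * a) =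
        if InZ z (l : E) then a else 0 := by
      intro l
      by_cases hl : InZ z (l : E)
      · rw [if_pos hl]
        have hsl : s (l : E) = l := by
          rcases hl with h | h <;> rw [h]
          exacts [map_one s, aut_z hg s]
        rw [hsl, ha, eLam_mul_of, smul_mul_assoc, eLam_idem, smul_smul, ← map_mul, inv_mul_cancel,
          map_one, one_smul]
      · rw [if_neg hl, ha, eLam_mid hg D hcomm' hz lam hlz hmax (fun h => hl (hinf _ l.2 h)),
          smul_zero]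
    have hfil : Finset.univ.filter (fun l : D => InZ z (l : E)) = {1, ⟨z, hz⟩} := by
      ext l
      simp only [Finset.mem_filter, Finset.mem_univ, true_and, Finset.mem_insert, Finset.mem_singleton]
      exact or_congr ⟨fun h => Subtype.ext h, congrArg Subtype.val⟩
        ⟨fun h => Subtype.ext h, congrArg Subtype.val⟩
    have hne1 : (1 : D) ≠ ⟨z, hz⟩ := fun h => hg.ne (congrArg Subtype.val h).symm
    have hexp : a * b * a = (Fintype.card D : ℂ)⁻¹ • ∑ l : D, lam l⁻¹ • (a * ι (s l) * a) := by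
      conv_lhs => enter [1, 2]; rw [hb, ha]; unfold eLam
      rw [map_smul, map_sum, mul_smul_comm, smul_mul_assoc, Finset.mul_sum, Finset.sum_mul]
      congr 1
      refine Finset.sum_congr rfl fun l _ => ?_
      rw [map_smul, alg_of, mul_smul_comm, smul_mul_assoc]
    rw [hexp, Finset.sum_congr rfl fun l _ => hterm l, ← Finset.sum_filter, hfil,
      Finset.sum_pair hne1, ← two_smul ℂ a, smul_smul, hκdef, Nat.card_eq_fintype_card]
    congr 1
    push_cast
    ring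
  have hbab : b * a * b = (κ : ℂ) • b := by
    have := congrArg (alg s) haba
    rwa [map_mul, map_mul, hsb, map_smul, ← hb] at this
  obtain ⟨c, N, hP⟩ := exists_sym hg hr hrb hκ haba hbab
  refine ⟨_, hP, fixed_of_index_two hg hHS hidx (fun h hh => ?_) ?_⟩
  · have hhb : alg h b = b := by
      rw [hb, ← alg_mul, show h * s = s * (s⁻¹ * h * s) by group, alg_mul, hfixH _ (hHn h hh)]
    simp only [map_smul, map_add, map_mul, hfixH h hh, hhb]
  · simp only [map_smul, map_add, map_mul, ← hb, hsb]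
    rw [add_comm b a, add_comm (b * a) (a * b)]

end Cfsg.Agent.DadeTwo
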