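import Cfsg.Agent.Lib.Char.DadeTwo.IdemOps
import Mathlib.GroupTheory.PGroup
import Mathlib.GroupTheory.Index

/-!
# Reduction along an invariant subgroup
-/

set_option autoImplicit false
set_option linter.unusedSectionVars false
set_option linter.style.haveILetI false
set_option linter.unusedSimpArgs false
set_option maxHeartbeats 800000

namespace Cfsg.Agent.DadeTwo

open scoped MonoidAlgebra

universe u v

variable {E : Type u} [Group E] [Finite E] {z : E}

theorem nsmul_odd (hg : Good z) {n : ℕ} (hn : Odd n) (v : Vsp hg) : n • v = v := by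
  obtain ⟨m, rfl⟩ := hn
  have h2 : (2 : ℕ) • v = 0 := by rw [two_nsmul]; nth_rw 1 [← neg_eq hg v]; exact neg_add_cancel v
  rw [succ_nsmul, mul_nsmul, h2, nsmul_zero, zero_add]

theorem list_sum_add {α M : Type*} [AddCommMonoid M] (l : List α) (f g : α → M) :
    (l.map fun a => f a + g a).sum = (l.map f).sum + (l.map g).sum := by
  induction l with
  | nil => simp
  | cons a l ih => simp [ih]; abel

theorem fixed_eq_zero (hg : Good z) {K : Subgroup (MulAut E)} (hfpf : Fpf z K)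
    (hK : Odd (Nat.card K)) {v : Vsp hg} (hv : ∀ k ∈ K, aV hg k v = v) : v = 0 := by
  have h := sum_aV_eq_zero hg hfpf v
  rw [List.map_congr_left (g := fun _ => v) fun k hk => hv k (mem_kl.mp hk)] at h
  simpa [List.map_const', List.sum_replicate, kl_length, nsmul_odd hg hK] using h

theorem map_Pl (s : MulAut E) (l : List (MulAut E)) (x : E) :
    s (Pl l x) = Pl (l.map fun k => s * k * s⁻¹) (s x) := by
  simp [Pl, map_list_prod, List.map_map, Function.comp_def]

theorem perm_conj {K : Subgroup (MulAut E)} {s : MulAut E}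
    (hs : ∀ k, s * k * s⁻¹ ∈ K ↔ k ∈ K) :
    ((kl K).map fun k => s * k * s⁻¹).Perm (kl K) :=
  kl_perm _ (fun a b h => mul_left_cancel (mul_right_cancel h)) hs

/-- When the pairings agree the product commutes with a normalizing automorphism. -/
theorem Pl_conj (hg : Good z) {K : Subgroup (MulAut E)} {s : MulAut E}
    (hs : ∀ k, s * k * s⁻¹ ∈ K ↔ k ∈ K) (a b : E)
    (h : ∀ k ∈ K, ∀ k' ∈ K, bc (k (s a)) (k' (s a)) = bc (k (s b)) (k' (s b))) :
    ∃ c, Pl (kl K) (s a) = s (Pl (kl K) a) * zz z c ∧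
      Pl (kl K) (s b) = s (Pl (kl K) b) * zz z c := by
  have hp := perm_conj hs
  obtain ⟨c, h1, h2⟩ := Pl_perm hg hp (s a) (s b) fun k hk k' hk' =>
    h k (mem_kl.mp (hp.mem_iff.mp hk)) k' (mem_kl.mp (hp.mem_iff.mp hk'))
  exact ⟨c, by rw [h1, map_Pl], by rw [h2, map_Pl]⟩

theorem norm_iff {K S : Subgroup (MulAut E)} (hn : ∀ s ∈ S, ∀ k ∈ K, s * k * s⁻¹ ∈ K)
    {s : MulAut E} (hs : s ∈ S) (k : MulAut E) : s * k * s⁻¹ ∈ K ↔ k ∈ K := by
  refine ⟨fun h => ?_, hn s hs k⟩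
  have := hn s⁻¹ (S.inv_mem hs) _ h
  rwa [inv_inv, show s⁻¹ * (s * k * s⁻¹) * s = k by group] at this

/-! ### Induced automorphisms of sections -/

variable {E' : Type v} [Group E'] [Finite E'] {C : Subgroup E} {f : C →* E'}
  (hf : Function.Surjective f)

/-- An automorphism respecting a section. -/
structure Compat (f : C →* E') (a : MulAut E) : Prop where
  mem : ∀ x, a x ∈ C ↔ x ∈ C
  ker : ∀ x : C, f x = 1 ↔ f ⟨a x, (mem x).mpr x.2⟩ = 1

include hf in
theorem exists_ind {a : MulAut E} (h : Compat f a) :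
    ∃ a' : MulAut E', ∀ x : C, f ⟨a x, (h.mem x).mpr x.2⟩ = a' (f x) := by
  let r : C →* C :=
    { toFun := fun x => ⟨a x, (h.mem x).mpr x.2⟩
      map_one' := Subtype.ext (map_one a)
      map_mul' := fun x y => Subtype.ext (map_mul a (x : E) (y : E)) }
  have hker : f.ker ≤ (f.comp r).ker := fun x hx => (h.ker x).mp hx
  let g : E' →* E' := f.liftOfSurjective hf ⟨f.comp r, hker⟩
  have hg : ∀ x, g (f x) = f (r x) := fun x =>
    f.liftOfRightInverse_comp_apply _ (Function.rightInverse_surjInv hf) ⟨f.comp r, hker⟩ x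
  have hsurj : Function.Surjective g := by
    intro y
    obtain ⟨x, rfl⟩ := hf y
    refine ⟨f ⟨a⁻¹ x, (h.mem _).mp (by rw [MulAut.apply_inv_self]; exact x.2)⟩, ?_⟩
    rw [hg]
    congr 1
    refine Subtype.ext ?_
    exact MulAut.apply_inv_self _ _ _
  exact ⟨MulEquiv.ofBijective g ⟨Finite.injective_iff_surjective.mpr hsurj, hsurj⟩,
    fun x => (hg x).symm⟩

/-- The image of a group of automorphisms on a section. -/
noncomputable def indHom (H : Subgroup (MulAut E)) (hH : ∀ a ∈ H, Compat f a) : H →* MulAut E' :=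
  have key : ∀ (a : MulAut E) (ha : a ∈ H) (x : C), (exists_ind hf (hH a ha)).choose (f x) =
      f ⟨a x, ((hH a ha).mem x).mpr x.2⟩ :=
    fun a ha x => ((exists_ind hf (hH a ha)).choose_spec x).symm
  { toFun := fun a => (exists_ind hf (hH a a.2)).choose
    map_one' := MulEquiv.ext fun y => by
      obtain ⟨x, rfl⟩ := hf y
      rw [key _ (1 : H).2, MulAut.one_apply]
      congr 1
    map_mul' := fun a b => MulEquiv.ext fun y => by
      obtain ⟨x, rfl⟩ := hf y
      rw [key _ (a * b).2, MulAut.mul_apply, key _ b.2, key _ a.2]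
      congr 1 }

theorem indHom_apply {H : Subgroup (MulAut E)} (hH : ∀ a ∈ H, Compat f a) (a : H) (x : C) :
    f ⟨(a : MulAut E) x, ((hH a a.2).mem x).mpr x.2⟩ = indHom hf H hH a (f x) :=
  (exists_ind hf (hH a a.2)).choose_spec x

/-- Every problem of this kind on a smaller group has a solution. -/
def Solved (z : E) : Prop :=
  ∀ K S : Subgroup (MulAut E), Odd (Nat.card K) → IsPGroup 2 S →
    (∀ s ∈ S, ∀ k ∈ K, s * k * s⁻¹ ∈ K) → Fpf z K →
    ∃ p, Rank1 z p ∧ ∀ s ∈ S, alg s p = p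

/-- The inductive hypothesis. -/
def Below (n : ℕ) : Prop :=
  ∀ (F : Type u) [Group F] [Finite F] (z : F), Nat.card F < n → Good z → Solved z

theorem solve_section {E' : Type u} [Group E'] [Finite E'] {f : C →* E'}
    (hf : Function.Surjective f) {z' : E'} (hg' : Good z') (hsol : Solved z')
    {K S : Subgroup (MulAut E)} (hK : Odd (Nat.card K)) (hS : IsPGroup 2 S)
    (hn : ∀ s ∈ S, ∀ k ∈ K, s * k * s⁻¹ ∈ K) (cK : ∀ a ∈ K, Compat f a)
    (cS : ∀ a ∈ S, Compat f a)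
    (hfpf : ∀ x : C, (∀ k (hk : k ∈ K), f ⟨k x, ((cK k hk).mem x).mpr x.2⟩ = f x ∨
      f ⟨k x, ((cK k hk).mem x).mpr x.2⟩ = f x * z') → InZ z' (f x)) :
    ∃ p', Rank1 z' p' ∧ ∀ (s : S), alg (indHom hf S cS s) p' = p' := by
  have hnorm : ∀ t ∈ (indHom hf S cS).range, ∀ j ∈ (indHom hf K cK).range,
      t * j * t⁻¹ ∈ (indHom hf K cK).range := by
    rintro _ ⟨s, rfl⟩ _ ⟨k, rfl⟩
    refine ⟨⟨(s : MulAut E) * k * (s : MulAut E)⁻¹, hn s s.2 k k.2⟩, MulEquiv.ext fun y => ?_⟩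
    obtain ⟨x, rfl⟩ := hf y
    rw [MulAut.mul_apply, MulAut.mul_apply]
    have hx' : (indHom hf S cS s)⁻¹ (f x) =
        f ⟨(s : MulAut E)⁻¹ x, ((cS _ (S.inv_mem s.2)).mem x).mpr x.2⟩ := by
      rw [← map_inv]
      exact (indHom_apply hf cS s⁻¹ x).symm
    rw [hx', ← indHom_apply, ← indHom_apply, ← indHom_apply]
    rfl
  have hfp : Fpf z' (indHom hf K cK).range := by
    intro y hy
    obtain ⟨x, rfl⟩ := hf y
    refine hfpf x fun k hk => ?_
    have := hy _ ⟨⟨k, hk⟩, rfl⟩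
    rwa [← indHom_apply] at this
  obtain ⟨p', hp', hfix⟩ := hsol (indHom hf K cK).range (indHom hf S cS).range
    (hK.of_dvd_nat (Subgroup.card_range_dvd _))
    (hS.of_surjective _ (indHom hf S cS).rangeRestrict_surjective) hnorm hfp
  exact ⟨p', hp', fun s => hfix _ ⟨s, rfl⟩⟩

/-! ### The reduction -/

variable (hg : Good z)
include hg

/-- The preimage of a subspace. -/
def Dof (W : Submodule (ZMod 2) (Vsp hg)) : Subgroup E where
  carrier := {x | q hg x ∈ W}
  one_mem' := by show q hg 1 ∈ W; rw [q_one]; exact W.zero_mem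
  mul_mem' {a b} ha hb := by show q hg (a * b) ∈ W; rw [q_mul]; exact W.add_mem ha hb
  inv_mem' {a} ha := by show q hg a⁻¹ ∈ W; rw [q_inv]; exact ha

theorem mem_Dof {W : Submodule (ZMod 2) (Vsp hg)} {x : E} : x ∈ Dof hg W ↔ q hg x ∈ W := Iff.rfl

theorem mem_centralizer_iff_B (W : Submodule (ZMod 2) (Vsp hg)) (x : E) :
    x ∈ Subgroup.centralizer (Dof hg W : Set E) ↔ ∀ w ∈ W, B hg (q hg x) w = 0 := by
  rw [Subgroup.mem_centralizer_iff]
  constructor
  · intro h w hw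
    obtain ⟨y, rfl⟩ := q_surjective hg w
    rw [B_q]
    exact bc_eq_zero_iff.mpr (h y hw).symm
  · intro h y hy
    have := h _ hy
    rw [B_q] at this
    exact (bc_eq_zero_iff.mp this).eq.symm

theorem good_sub (D : Subgroup E) (hz : z ∈ D)
    (hnd : ∀ x ∈ D, (∀ y ∈ D, Commute x y) → InZ z x) : Good (⟨z, hz⟩ : D) where
  ne h := hg.ne (congrArg Subtype.val h)
  sq := Subtype.ext hg.sq
  cz x := Subtype.ext (hg.cz x).eq
  comm x y := (hg.comm x y).imp (fun h => Subtype.ext h) fun h => Subtype.ext h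
  square x := (hg.square x).imp (fun h => Subtype.ext h) fun h => Subtype.ext h
  center x hx := (hnd x x.2 fun y hy => congrArg Subtype.val (hx ⟨y, hy⟩).eq).imp
    (fun h => Subtype.ext h) fun h => Subtype.ext h

omit hg in
theorem centralizer_invariant (D : Subgroup E) (a : MulAut E) (hD : ∀ x, a x ∈ D ↔ x ∈ D) (x : E) :
    a x ∈ Subgroup.centralizer (D : Set E) ↔ x ∈ Subgroup.centralizer (D : Set E) := by
  simp only [Subgroup.mem_centralizer_iff]
  constructor
  · intro h y hy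
    have := h (a y) ((hD y).mpr hy)
    rw [← map_mul, ← map_mul] at this
    exact a.injective this
  · intro h y hy
    have h' : a⁻¹ y ∈ D := by rw [← hD, MulAut.apply_inv_self]; exact hy
    have := congrArg a (h _ h')
    rwa [map_mul, map_mul, MulAut.apply_inv_self] at this

omit hg in
theorem card_lt_of_ne_top {D : Subgroup E} (h : D ≠ ⊤) : Nat.card D < Nat.card E :=
  lt_of_le_of_ne (Subgroup.card_le_card_group D) fun e =>
    h (Subgroup.eq_top_of_card_eq D e)

variable {K S : Subgroup (MulAut E)}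

/-- An invariant commutative subgroup which is not central. -/
theorem solve_iso (ih : Below.{u} (Nat.card E)) (hK : Odd (Nat.card K)) (hS : IsPGroup 2 S)
    (hn : ∀ s ∈ S, ∀ k ∈ K, s * k * s⁻¹ ∈ K) (hfpf : Fpf z K) (D₀ : Subgroup E) (hz₀ : z ∈ D₀)
    (hne₀ : ∃ x ∈ D₀, ¬ InZ z x) (hc₀ : ∀ x ∈ D₀, ∀ y ∈ D₀, Commute x y)
    (hK₀ : ∀ a ∈ K, ∀ x, a x ∈ D₀ ↔ x ∈ D₀) (hS₀ : ∀ a ∈ S, ∀ x, a x ∈ D₀ ↔ x ∈ D₀) :
    ∃ p, Rank1 z p ∧ ∀ s ∈ S, alg s p = p := by
  classical
  haveI : Finite (Subgroup E) := Finite.of_injective (fun H : Subgroup E => (H : Set E)) SetLike.coe_injective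
  obtain ⟨D, hD₀D, hmax⟩ := (Set.toFinite {D : Subgroup E | D₀ ≤ D ∧ (∀ x ∈ D, ∀ y ∈ D, Commute x y)
    ∧ (∀ a ∈ K, ∀ x, a x ∈ D ↔ x ∈ D) ∧ ∀ a ∈ S, ∀ x, a x ∈ D ↔ x ∈ D}).exists_le_maximal
    (a := D₀) ⟨le_rfl, hc₀, hK₀, hS₀⟩
  obtain ⟨hDD, hc, hKD, hSD⟩ := hmax.prop
  have hz : z ∈ D := hDD hz₀
  set C := Subgroup.centralizer (D : Set E) with hC
  have hDC : D ≤ C := fun x hx => Subgroup.mem_centralizer_iff.mpr fun y hy => (hc y hy x hx).eq
  have hKC := fun a ha => centralizer_invariant (E := E) D a (hKD a ha)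
  have hSC := fun a ha => centralizer_invariant (E := E) D a (hSD a ha)
  have hCD : ∀ x ∈ C, (∀ y ∈ C, Commute x y) → x ∈ D := by
    intro x hx hcx
    set W := C ⊓ Subgroup.centralizer (C : Set E)
    have hW : D ≤ W := le_inf hDC (Subgroup.le_centralizer_iff.mp le_rfl)
    have hinv : ∀ a : MulAut E, (∀ x, a x ∈ C ↔ x ∈ C) → ∀ x, a x ∈ W ↔ x ∈ W := fun a ha x => by
      simp only [W, Subgroup.mem_inf, ha x, centralizer_invariant (E := E) C a ha x]
    have hle := hmax.le_of_ge ⟨hDD.trans hW, fun x hx y hy => (Subgroup.mem_centralizer_iff.mp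
      hy.2 x hx.1), fun a ha => hinv a (hKC a ha), fun a ha => hinv a (hSC a ha)⟩ hW
    exact hle ⟨hx, Subgroup.mem_centralizer_iff.mpr fun y hy => (hcx y hy).eq.symm⟩
  have hbc0 : ∀ x ∈ D, ∀ y ∈ D, ∀ k ∈ kl K, ∀ k' ∈ kl K, bc (k x) (k' y) = 0 :=
    fun x hx y hy k hk k' hk' => bc_eq_zero_iff.mpr
      (hc _ ((hKD k (mem_kl.mp hk) x).mpr hx) _ ((hKD k' (mem_kl.mp hk') y).mpr hy))
  have hodd : Odd (kl K).length := by rwa [kl_length]
  have hPmul : ∀ x ∈ D, ∀ y ∈ D, Pl (kl K) (x * y) = Pl (kl K) x * Pl (kl K) y :=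
    fun x hx y hy => Pl_mul_comm hg _ _ _ (hbc0 x hx y hy)
  have hPz : Pl (kl K) z = z := by
    have := Pl_zz hg _ hodd 1
    rwa [zz_one] at this
  -- compatibility
  have hPinv : ∀ a : MulAut E, (∀ k, a * k * a⁻¹ ∈ K ↔ k ∈ K) → (∀ x, a x ∈ D ↔ x ∈ D) →
      ∀ x ∈ D, Pl (kl K) (a x) = a (Pl (kl K) x) := by
    intro a ha haD x hx
    obtain ⟨c, h1, h2⟩ := Pl_conj hg ha x 1 fun k hk k' hk' => by
      rw [map_one, map_one, map_one, bc_one_left]
      exact hbc0 _ ((haD x).mpr hx) _ ((haD x).mpr hx) k (mem_kl.mpr hk) k' (mem_kl.mpr hk')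
    rw [map_one, Pl_one, map_one, one_mul] at h2
    rw [h1, ← h2, mul_one]
  let N : Subgroup C :=
    { carrier := {x | (x : E) ∈ D ∧ Pl (kl K) (x : E) = 1}
      one_mem' := ⟨D.one_mem, Pl_one _⟩
      mul_mem' := fun {x y} hx hy => ⟨D.mul_mem hx.1 hy.1, by
        show Pl (kl K) ((x : E) * y) = 1
        rw [hPmul _ hx.1 _ hy.1, hx.2, hy.2, one_mul]⟩
      inv_mem' := fun {x} hx => ⟨D.inv_mem hx.1, by
        have := hPmul _ hx.1 _ (D.inv_mem hx.1)
        rw [mul_inv_cancel, Pl_one, hx.2, one_mul] at this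
        exact this.symm⟩ }
  have hNcent : ∀ n ∈ N, ∀ x : C, Commute x n := fun n hn x =>
    Subtype.ext (Subgroup.mem_centralizer_iff.mp x.2 n hn.1).symm
  haveI hNn : N.Normal := ⟨fun n hn x => by rwa [(hNcent n hn x).eq, mul_inv_cancel_right]⟩
  have hzC : z ∈ C := hDC hz
  set f := QuotientGroup.mk' N
  set z' := f ⟨z, hzC⟩
  have hfone : ∀ x : C, f x = 1 ↔ x ∈ N := fun x => QuotientGroup.eq_one_iff x
  have hzN : (⟨z, hzC⟩ : C) ∉ N := fun h => hg.ne (hPz ▸ h.2)
  have hDmem : ∀ x : C, (x : E) ∈ D → InZ z' (f x) := by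
    intro x hx
    rcases Pl_inZ hg hfpf (x : E) with h | h
    · exact Or.inl ((hfone x).mpr ⟨hx, h⟩)
    · refine Or.inr ?_
      have hN : x * ⟨z, hzC⟩ ∈ N := ⟨D.mul_mem hx hz, by
        show Pl (kl K) ((x : E) * z) = 1
        rw [hPmul _ hx _ hz, hPz, h, hg.sq]⟩
      have := (hfone _).mpr hN
      rw [map_mul] at this
      rw [eq_inv_of_mul_eq_one_left this]
      refine inv_eq_of_mul_eq_one_right ?_
      show z' * z' = 1
      rw [← map_mul]
      exact (hfone _).mpr (by rw [show (⟨z, hzC⟩ : C) * ⟨z, hzC⟩ = 1 from Subtype.ext hg.sq]; exact N.one_mem)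
  have hg' : Good z' := by
    refine ⟨fun h => hzN ((hfone _).mp h), ?_, ?_, ?_, ?_, ?_⟩
    · rw [← map_mul, show (⟨z, hzC⟩ : C) * ⟨z, hzC⟩ = 1 from Subtype.ext hg.sq, map_one]
    · intro y
      obtain ⟨x, rfl⟩ := QuotientGroup.mk'_surjective N y
      exact (show Commute (⟨z, hzC⟩ : C) x from Subtype.ext (hg.cz x).eq).map f
    · intro y y'
      obtain ⟨x, rfl⟩ := QuotientGroup.mk'_surjective N y
      obtain ⟨x', rfl⟩ := QuotientGroup.mk'_surjective N y'
      rcases hg.comm (x : E) x' with h | h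
      · left; rw [← map_mul, ← map_mul]; congr 1; exact Subtype.ext h
      · right; rw [← map_mul, ← map_mul, ← map_mul]; congr 1; exact Subtype.ext h
    · intro y
      obtain ⟨x, rfl⟩ := QuotientGroup.mk'_surjective N y
      rcases hg.square (x : E) with h | h
      · left; rw [← map_mul, show x * x = 1 from Subtype.ext h, map_one]
      · right; rw [← map_mul, show x * x = ⟨z, hzC⟩ from Subtype.ext h]
    · intro y hy
      obtain ⟨x, rfl⟩ := QuotientGroup.mk'_surjective N y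
      refine hDmem x (hCD x x.2 fun w hw => ?_)
      rcases hg.comm (x : E) w with h | h
      · exact h
      · exfalso
        have h1 := (hy (f ⟨w, hw⟩)).eq
        rw [← map_mul, ← map_mul, show x * ⟨w, hw⟩ = ⟨w, hw⟩ * x * ⟨z, hzC⟩ from Subtype.ext h,
          map_mul] at h1
        exact hzN ((hfone _).mp (mul_eq_left.mp h1))
  have compat : ∀ a : MulAut E, (∀ k, a * k * a⁻¹ ∈ K ↔ k ∈ K) → (∀ x, a x ∈ D ↔ x ∈ D) →
      (∀ x, a x ∈ C ↔ x ∈ C) → Compat f a := by
    intro a ha haD haC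
    refine ⟨haC, fun x => ?_⟩
    rw [hfone, hfone]
    show (_ ∧ _) ↔ (_ ∧ _)
    by_cases hx : (x : E) ∈ D
    · simp only [hx, (haD x).mpr hx, true_and, hPinv a ha haD x hx, a.map_eq_one_iff]
    · simp [hx, haD x]
  have hKK : ∀ a ∈ K, ∀ k, a * k * a⁻¹ ∈ K ↔ k ∈ K := fun a ha k => by
    rw [K.mul_mem_cancel_right (K.inv_mem ha), K.mul_mem_cancel_left ha]
  have cK := fun a ha => compat a (hKK a ha) (hKD a ha) (hKC a ha)
  have cS := fun a ha => compat a (norm_iff hn ha) (hSD a ha) (hSC a ha)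
  obtain ⟨x₀, hx₀, hx₀Z⟩ := hne₀
  have hCtop : C ≠ ⊤ := by
    intro h
    refine hx₀Z (hg.center x₀ fun y => ?_)
    have hy : y ∈ C := h ▸ Subgroup.mem_top y
    exact (Subgroup.mem_centralizer_iff.mp hy x₀ (hDD hx₀))
  have hlt : Nat.card (C ⧸ N) < Nat.card E :=
    lt_of_le_of_lt (Nat.le_of_dvd Nat.card_pos (Subgroup.card_quotient_dvd_card N))
      (card_lt_of_ne_top hCtop)
  obtain ⟨p', hp', hfix⟩ := solve_section (QuotientGroup.mk'_surjective N) hg'
    (ih (C ⧸ N) z' hlt hg') hK hS hn cK cS (by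
      intro x hx
      refine hDmem x ?_
      -- the sum over `K` gives `q x ∈ q D`
      let W : Submodule (ZMod 2) (Vsp hg) :=
        { carrier := q hg '' (D : Set E)
          zero_mem' := ⟨1, D.one_mem, q_one hg⟩
          add_mem' := by
            rintro _ _ ⟨a, ha, rfl⟩ ⟨b, hb, rfl⟩
            exact ⟨a * b, D.mul_mem ha hb, q_mul hg a b⟩
          smul_mem' := by
            rintro c _ ⟨a, ha, rfl⟩
            rcases zmod_two_cases c with rfl | rfl
            · exact ⟨1, D.one_mem, by rw [zero_smul, q_one]⟩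
            · exact ⟨a, ha, by rw [one_smul]⟩ }
      have hdiff : ∀ k ∈ kl K, q hg (k (x : E)) + q hg (x : E) ∈ W := by
        intro k hk
        rw [← q_mul]
        refine ⟨_, ?_, rfl⟩
        have hk' := mem_kl.mp hk
        have hkey : ∃ d ∈ D, (k (x : E)) = (x : E) * d := by
          rcases hx k hk' with h | h
          · have := (hfone _).mp (show f (x⁻¹ * ⟨k x, ((cK k hk').mem x).mpr x.2⟩) = 1 by
              rw [map_mul, map_inv, h, inv_mul_cancel])
            exact ⟨_, this.1, (mul_inv_cancel_left (x : E) _).symm⟩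
          · have := (hfone _).mp (show f ((x * ⟨z, hzC⟩)⁻¹ * ⟨k x, ((cK k hk').mem x).mpr x.2⟩) = 1 by
              rw [map_mul, map_inv, h, map_mul, inv_mul_cancel])
            exact ⟨z * (((x : E) * z)⁻¹ * k x), D.mul_mem hz this.1, by group⟩
        obtain ⟨d, hd, hkd⟩ := hkey
        have hcd : Commute (x : E) d := (Subgroup.mem_centralizer_iff.mp x.2 d hd).symm
        rw [hkd, hcd.eq, mul_assoc]
        exact D.mul_mem hd (by
          rcases hg.square (x : E) with e | e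
          · rw [e]; exact D.one_mem
          · rw [e]; exact hz)
      have hsum : ((kl K).map fun k => q hg (k (x : E)) + q hg (x : E)).sum ∈ W :=
        list_sum_mem (by
          intro v hv
          obtain ⟨k, hk, rfl⟩ := List.mem_map.mp hv
          exact hdiff k hk)
      rw [list_sum_add, List.map_const', List.sum_replicate, kl_length, nsmul_odd hg hK] at hsum
      have hz0 := sum_aV_eq_zero hg hfpf (q hg (x : E))
      simp only [aV_q] at hz0
      rw [hz0, zero_add] at hsum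
      obtain ⟨d, hd, hdx⟩ := hsum
      obtain ⟨c, hc⟩ := (q_eq_iff hg).mp hdx.symm
      rw [hc]
      refine D.mul_mem hd ?_
      rcases zmod_two_cases c with rfl | rfl
      · rw [zz_zero]; exact D.one_mem
      · rw [zz_one]; exact hz)
  obtain ⟨p, hp, hpf⟩ := pullback hg C f (QuotientGroup.mk'_surjective N) hzC rfl
    (fun n hn x => hNcent n ((hfone n).mp hn) x) (fun x hx => by
      rw [hC, Subgroup.mem_centralizer_iff] at hx
      push Not at hx
      obtain ⟨d, hd, hdx⟩ := hx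
      obtain ⟨c, hPc⟩ := inZ_iff_zz.mp (Pl_inZ hg hfpf d)
      refine ⟨⟨d * zz z c, C.mul_mem (hDC hd) (hDC ?_)⟩, (hfone _).mpr ⟨D.mul_mem hd ?_, ?_⟩,
        fun h => hdx ?_⟩
      · rcases zz_inZ (z := z) c with h | h <;> rw [h]
        exacts [D.one_mem, hz]
      · rcases zz_inZ (z := z) c with h | h <;> rw [h]
        exacts [D.one_mem, hz]
      · show Pl (kl K) (d * zz z c) = 1
        rw [Pl_mul_zz hg _ hodd, hPc, (zz_inZ (z := z) c).sq hg]
      · have h1 := h.mul_right ((zz_inZ (z := z) c).commute hg x).symm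
        rw [mul_assoc, (zz_inZ (z := z) c).sq hg, mul_one] at h1
        exact h1.eq.symm) hp'
  exact ⟨p, hp, fun s hs => hpf s _ (cS s hs).mem (indHom_apply _ cS ⟨s, hs⟩) (hfix ⟨s, hs⟩)⟩

/-- The restriction data for a nondegenerate subgroup. -/
theorem solve_restrict {D : Subgroup E} (hz : z ∈ D)
    (hnd : ∀ x ∈ D, (∀ y ∈ D, Commute x y) → InZ z x) (hD : D ≠ ⊤) (ih : Below.{u} (Nat.card E))
    {H : Subgroup (MulAut E)} (hK : Odd (Nat.card K)) (hH : IsPGroup 2 H)
    (hn : ∀ s ∈ H, ∀ k ∈ K, s * k * s⁻¹ ∈ K) (hfpf : Fpf z K)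
    (hKD : ∀ a ∈ K, ∀ x, a x ∈ D ↔ x ∈ D) (hHD : ∀ a ∈ H, ∀ x, a x ∈ D ↔ x ∈ D) :
    ∃ p : ℂ[D], Rank1 (⟨z, hz⟩ : D) p ∧ ∀ a ∈ H, alg a (incl D p) = incl D p := by
  have hg' := good_sub hg D hz hnd
  have comp : ∀ a : MulAut E, (∀ x, a x ∈ D ↔ x ∈ D) → Compat (MonoidHom.id D) a := fun a ha =>
    ⟨ha, fun x => by
      simp only [MonoidHom.id_apply, Subtype.ext_iff, OneMemClass.coe_one]
      exact a.map_eq_one_iff.symm⟩
  have hsurj : Function.Surjective (MonoidHom.id D) := fun x => ⟨x, rfl⟩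
  obtain ⟨p, hp, hfix⟩ := solve_section hsurj hg' (ih D _ (card_lt_of_ne_top hD) hg') hK hH hn
    (fun a ha => comp a (hKD a ha)) (fun a ha => comp a (hHD a ha)) (fun x hx => by
      refine (hfpf x fun k hk => ?_).imp (fun h => Subtype.ext h) fun h => Subtype.ext h
      exact (hx k hk).imp (congrArg Subtype.val) (congrArg Subtype.val))
  refine ⟨p, hp, fun a ha => ?_⟩
  rw [alg_incl a D D (indHom hsurj H (fun a ha => comp a (hHD a ha)) ⟨a, ha⟩)
    fun d => (congrArg Subtype.val (indHom_apply hsurj _ ⟨a, ha⟩ d)).symm]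
  exact congrArg (incl D) (hfix ⟨a, ha⟩)

/-- A proper invariant subgroup which is not central. -/
theorem solve_invariant (ih : Below.{u} (Nat.card E)) (hK : Odd (Nat.card K)) (hS : IsPGroup 2 S)
    (hn : ∀ s ∈ S, ∀ k ∈ K, s * k * s⁻¹ ∈ K) (hfpf : Fpf z K) (D : Subgroup E) (hz : z ∈ D)
    (hne : ∃ x ∈ D, ¬ InZ z x) (hD : D ≠ ⊤)
    (hKD : ∀ a ∈ K, ∀ x, a x ∈ D ↔ x ∈ D) (hSD : ∀ a ∈ S, ∀ x, a x ∈ D ↔ x ∈ D) :
    ∃ p, Rank1 z p ∧ ∀ s ∈ S, alg s p = p := by
  set D' := Subgroup.centralizer (D : Set E) with hD'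
  have hKD' := fun a ha => centralizer_invariant (E := E) D a (hKD a ha)
  have hSD' := fun a ha => centralizer_invariant (E := E) D a (hSD a ha)
  have hz' : z ∈ D' := Subgroup.mem_centralizer_iff.mpr fun y _ => (hg.cz y).eq.symm
  by_cases hrad : ∀ x ∈ D, x ∈ D' → InZ z x
  · have hnd : ∀ x ∈ D, (∀ y ∈ D, Commute x y) → InZ z x := fun x hx h =>
      hrad x hx (Subgroup.mem_centralizer_iff.mpr fun y hy => (h y hy).eq.symm)
    have hgen : ∀ x : E, ∃ d ∈ D, ∃ d' ∈ D', x = d * d' := by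
      let W : Submodule (ZMod 2) (Vsp hg) :=
        { carrier := q hg '' (D : Set E)
          zero_mem' := ⟨1, D.one_mem, q_one hg⟩
          add_mem' := by
            rintro _ _ ⟨a, ha, rfl⟩ ⟨b, hb, rfl⟩
            exact ⟨a * b, D.mul_mem ha hb, q_mul hg a b⟩
          smul_mem' := by
            rintro c _ ⟨a, ha, rfl⟩
            rcases zmod_two_cases c with rfl | rfl
            · exact ⟨1, D.one_mem, by rw [zero_smul, q_one]⟩
            · exact ⟨a, ha, by rw [one_smul]⟩ }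
      intro x
      obtain ⟨_, ⟨d, hd, rfl⟩, hdd⟩ := exists_proj hg W (by
        rintro _ ⟨a, ha, rfl⟩ h
        refine (q_eq_zero_iff hg).mpr (hnd a ha fun b hb => bc_eq_zero_iff.mp ?_)
        rw [← B_q hg]
        exact h _ ⟨b, hb, rfl⟩) (q hg x)
      refine ⟨d, hd, d⁻¹ * x, Subgroup.mem_centralizer_iff.mpr fun y hy => ?_,
        (mul_inv_cancel_left d x).symm⟩
      have h := hdd _ ⟨y, hy, rfl⟩
      rw [B_q, B_q] at h
      refine (bc_eq_zero_iff.mp ?_).eq
      rw [bc_comm, bc_mul_left hg, h, ← bc_mul_left hg, inv_mul_cancel, bc_one_left]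
    have hnd' : ∀ x ∈ D', (∀ y ∈ D', Commute x y) → InZ z x := by
      intro x hx h
      refine hg.center x fun y => ?_
      obtain ⟨d, hd, d', hd', rfl⟩ := hgen y
      exact (show Commute x d from (Subgroup.mem_centralizer_iff.mp hx d hd).symm).mul_right (h d' hd')
    have hD'top : D' ≠ ⊤ := by
      intro h
      obtain ⟨x, hx, hxZ⟩ := hne
      exact hxZ (hrad x hx (h ▸ Subgroup.mem_top x))
    obtain ⟨p₁, hp₁, hf₁⟩ := solve_restrict hg hz hnd hD ih hK hS hn hfpf hKD hSD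
    obtain ⟨p₂, hp₂, hf₂⟩ := solve_restrict hg hz' hnd' hD'top ih hK hS hn hfpf hKD' hSD'
    refine ⟨incl D p₁ * incl D' p₂, incl_prod_rank1 hg hz hz'
      (fun d hd d' hd' => (Subgroup.mem_centralizer_iff.mp hd' d hd)) hrad hgen
      (good_sub hg D hz hnd) (good_sub hg D' hz' hnd') hp₁ hp₂, fun s hs => ?_⟩
    rw [map_mul, hf₁ s hs, hf₂ s hs]
  · push Not at hrad
    obtain ⟨x, hxD, hxD', hxZ⟩ := hrad
    refine solve_iso hg ih hK hS hn hfpf (D ⊓ D') ⟨hz, hz'⟩ ⟨x, ⟨hxD, hxD'⟩, hxZ⟩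
      (fun a ha b hb => (Subgroup.mem_centralizer_iff.mp hb.2 a ha.1)) ?_ ?_
    · intro a ha y; simp only [Subgroup.mem_inf, hKD a ha y, hKD' a ha y, hD']
    · intro a ha y; simp only [Subgroup.mem_inf, hSD a ha y, hSD' a ha y, hD']

end Cfsg.Agent.DadeTwo
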